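import Groth.Agent.Hensel.SmoothLift

/-!
Newton's lemma in several variables when the Jacobian divides a power of the henselian element.
-/

set_option autoImplicit false

universe u
open MvPolynomial Matrix

namespace Groth.Agent.RigFEt7

variable {R : Type u} [CommRing R]

/-- Taylor expansion in a scaled direction. -/
theorem exists_taylor {n : ℕ} (z : Fin n → R) (s : R) (p : MvPolynomial (Fin n) R) :
    ∃ Q : MvPolynomial (Fin n) R, aeval (fun i => C (z i) + C s * X i) p =
      C (eval z p) + C s * (∑ j, C (eval z (pderiv j p)) * X j) + C (s ^ 2) * Q := by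
  induction p using MvPolynomial.induction_on with
  | C a => exact ⟨0, by simp⟩
  | add p q hp hq =>
    obtain ⟨P, hP⟩ := hp
    obtain ⟨Q, hQ⟩ := hq
    refine ⟨P + Q, ?_⟩
    rw [map_add, hP, hQ]
    simp only [map_add, C_add, add_mul, Finset.sum_add_distrib]
    ring
  | mul_X p i hp =>
    obtain ⟨P, hP⟩ := hp
    refine ⟨(∑ j, C (eval z (pderiv j p)) * X j) * X i + P * (C (z i) + C s * X i), ?_⟩
    have h1 : ∀ j, C (eval z (pderiv j (p * X i))) * X j =
        C (z i) * (C (eval z (pderiv j p)) * X j) + (if i = j then C (eval z p) * X j else (0 : MvPolynomial (Fin n) R)) := by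
      intro j
      rw [pderiv_mul, map_add, map_mul, map_mul, eval_X, pderiv_X, C_add, C_mul]
      by_cases h : i = j
      · subst h; simp; ring
      · simp [h, Pi.single_apply, Ne.symm h]; ring
    rw [map_mul, hP, aeval_X]
    simp only [h1, Finset.sum_add_distrib, Finset.sum_ite_eq, Finset.mem_univ, if_true, ← Finset.mul_sum, map_mul,
      eval_X, C_pow]
    ring

/-- A root near an approximate root. -/
theorem exists_root_near (t : R) [HenselianRing R (Ideal.span {t})] (ht : ∀ r, t * r = 0 → r = 0) {n : ℕ}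
    (G : Fin n → MvPolynomial (Fin n) R) (z : Fin n → R) (c : ℕ) (w : R)
    (hdet : (Matrix.of fun i j => eval z (pderiv j (G i))).det * w = t ^ c)
    (hG : ∀ i, eval z (G i) ∈ Ideal.span {t ^ (2 * c + 1)}) :
    ∃ y : Fin n → R, (∀ i, y i - z i ∈ Ideal.span {t ^ (c + 1)}) ∧ ∀ i, eval y (G i) = 0 := by
  classical
  set J : Matrix (Fin n) (Fin n) R := Matrix.of fun i j => eval z (pderiv j (G i)) with hJ
  let W : Matrix (Fin n) (Fin n) R := w • J.adjugate
  have hWJ : W * J = t ^ c • (1 : Matrix (Fin n) (Fin n) R) := by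
    rw [Matrix.smul_mul, Matrix.adjugate_mul, smul_smul, mul_comm, hdet]
  have hJW : J * W = t ^ c • (1 : Matrix (Fin n) (Fin n) R) := by
    rw [Matrix.mul_smul, Matrix.mul_adjugate, smul_smul, mul_comm, hdet]
  choose g hg using fun i => Ideal.mem_span_singleton'.1 (hG i)
  choose Q hQ using fun i => exists_taylor z (t ^ (c + 1)) (G i)
  let Φ : Fin n → MvPolynomial (Fin n) R := fun k =>
    X k + C ((W *ᵥ g) k) + C t * ∑ i, C (W k i) * Q i
  let a₀ : Fin n → R := fun k => -(W *ᵥ g) k
  have hΦ0 : ∀ k, eval a₀ (Φ k) ∈ Ideal.span {t} := fun k => by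
    simp only [Φ, map_add, map_mul, eval_X, eval_C, a₀, neg_add_cancel, zero_add]
    exact Ideal.mul_mem_right _ _ (Ideal.mem_span_singleton_self t)
  have hdetΦ : IsUnit (Ideal.Quotient.mk (Ideal.span {t})
      (eval a₀ (Matrix.det (Matrix.of fun i j => pderiv i (Φ j))))) := by
    rw [RingHom.map_det, RingHom.map_det]
    convert isUnit_one
    refine Eq.trans (congrArg Matrix.det ?_) Matrix.det_one
    ext i j
    simp only [RingHom.mapMatrix_apply, Matrix.map_apply, Matrix.of_apply, Φ, map_add, pderiv_C, pderiv_C_mul,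
      pderiv_X, map_mul, eval_C, map_zero, add_zero, smul_eq_C_mul,
      Ideal.Quotient.eq_zero_iff_mem.2 (Ideal.mem_span_singleton_self t), zero_mul]
    by_cases h : i = j
    · subst h; simp
    · simp [h, Ne.symm h]
  obtain ⟨b, -, hb⟩ := Hensel.exists_root_of_jacobian (Ideal.span {t}) Φ a₀ hΦ0 hdetΦ
  let y : Fin n → R := fun i => z i + t ^ (c + 1) * b i
  let v : Fin n → R := fun i => eval y (G i)
  have hv : v = fun i => t ^ (2 * c + 1) * g i + t ^ (c + 1) * (J *ᵥ b) i + t ^ (2 * (c + 1)) * eval b (Q i) := by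
    funext i
    have h := congrArg (eval b) (hQ i)
    have e : eval b (aeval (fun i => C (z i) + C (t ^ (c + 1)) * X i) (G i)) = v i := by
      rw [← aeval_eq_eval, comp_aeval_apply]
      simp only [map_add, map_mul, aeval_C, aeval_X, Algebra.algebraMap_self_apply]
      rfl
    rw [e] at h
    rw [h]
    simp only [map_add, map_mul, map_sum, eval_C, eval_X, map_pow]
    rw [← hg i, show (J *ᵥ b) i = ∑ j, eval z (pderiv j (G i)) * b j from rfl]
    ring
  have hWv : W *ᵥ v = 0 := by
    have e0 : v = t ^ (2 * c + 1) • g + t ^ (c + 1) • (J *ᵥ b) + t ^ (2 * (c + 1)) • (fun i => eval b (Q i)) := by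
      rw [hv]; rfl
    have e1 : W *ᵥ (J *ᵥ b) = t ^ c • b := by
      rw [Matrix.mulVec_mulVec, hWJ, Matrix.smul_mulVec, Matrix.one_mulVec]
    rw [e0, Matrix.mulVec_add, Matrix.mulVec_add, Matrix.mulVec_smul, Matrix.mulVec_smul, Matrix.mulVec_smul, e1]
    funext k
    have h := hb k
    simp only [Φ, map_add, map_mul, map_sum, eval_X, eval_C] at h
    simp only [Pi.add_apply, Pi.smul_apply, smul_eq_mul, Pi.zero_apply]
    rw [show (W *ᵥ fun i => eval b (Q i)) k = ∑ i, W k i * eval b (Q i) from rfl]
    linear_combination t ^ (2 * c + 1) * h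
  refine ⟨y, fun i => Ideal.mem_span_singleton'.2 ⟨b i, by simp only [y]; ring⟩, fun i => ?_⟩
  have h2 : t ^ c * v i = 0 := by
    have := congrFun (congrArg (J *ᵥ ·) hWv) i
    simp only [Matrix.mulVec_mulVec, hJW, Matrix.smul_mulVec, Matrix.one_mulVec, Matrix.mulVec_zero,
      Pi.smul_apply, smul_eq_mul, Pi.zero_apply] at this
    exact this
  have hc : ∀ (k : ℕ) (r : R), t ^ k * r = 0 → r = 0 := fun k => by
    induction k with
    | zero => intro r hr; simpa using hr
    | succ k ih => intro r hr; exact ht r (ih _ (by rw [← mul_assoc, ← pow_succ]; exact hr))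
  exact hc c _ h2

end Groth.Agent.RigFEt7
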