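import Groth.Agent.RigFEt7.Away
import Groth.Agent.RigFEt7.Newton
import Mathlib.RingTheory.Smooth.StandardSmoothCotangent

/-!
Approximation of finite étale algebras over `A'[1/t]` by étale algebras over `A[1/t]`.
-/

set_option autoImplicit false

universe u
open MvPolynomial

namespace Groth.Agent.RigFEt7

theorem pderiv_scale {R : Type u} [CommRing R] {n : ℕ} (s : R) (p : MvPolynomial (Fin n) R) (j : Fin n) :
    pderiv j (aeval (fun i => C s * X i) p) = C s * aeval (fun i => C s * X i) (pderiv j p) := by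
  induction p using MvPolynomial.induction_on with
  | C a => simp
  | add p q hp hq => rw [map_add, map_add, hp, hq, map_add, map_add, mul_add]
  | mul_X p i hp =>
    rw [map_mul, aeval_X, pderiv_mul, hp, pderiv_C_mul, pderiv_X, pderiv_mul, map_add, map_mul, map_mul, aeval_X,
      pderiv_X]
    by_cases h : i = j
    · subst h; simp; ring
    · simp [h, Ne.symm h, Pi.single_apply]; ring

theorem exists_equations (K C : Type u) [CommRing K] [CommRing C] [Algebra K C] [Algebra.Etale K C] :
    ∃ (n : ℕ) (G : Fin n → MvPolynomial (Fin n) K) (x : Fin n → C), Function.Surjective (aeval x : MvPolynomial (Fin n) K →ₐ[K] C) ∧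
      (∀ i, aeval x (G i) = 0) ∧ IsUnit (Matrix.of fun i j => aeval x (pderiv j (G i))).det := by
  classical
  obtain ⟨ι, σ, _, _, P, hP⟩ := (Algebra.Etale.iff_isStandardSmoothOfRelativeDimension_zero (R := K) (S := C)).1 inferInstance |>.out
  have hmap : Function.Bijective P.map :=
    P.map_inj.bijective_of_nat_card_le (by
      have : Nat.card ι - Nat.card σ = 0 := hP
      omega)
  let ε : Fin (Nat.card σ) ≃ σ := (Finite.equivFin σ).symm
  let φ : Fin (Nat.card σ) ≃ ι := ε.trans (Equiv.ofBijective _ hmap)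
  haveI : Fintype σ := Fintype.ofFinite σ
  refine ⟨Nat.card σ, fun k => rename φ.symm (P.relation (ε k)), fun k => P.val (φ k), fun c => ?_, fun k => ?_, ?_⟩
  · refine ⟨rename φ.symm (P.σ c), ?_⟩
    rw [aeval_rename]
    convert P.aeval_val_σ c using 3
    funext i
    simp
  · rw [aeval_rename]
    convert P.aeval_val_relation (ε k) using 3
    funext i
    simp
  · have hu := P.jacobian_isUnit
    rw [Algebra.PreSubmersivePresentation.jacobian_eq_jacobiMatrix_det, Algebra.Generators.algebraMap_apply,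
      AlgHom.map_det, ← Matrix.det_transpose, ← Matrix.det_submatrix_equiv_self ε] at hu
    convert hu using 2
    ext i j
    simp only [Matrix.of_apply, Matrix.submatrix_apply, Matrix.transpose_apply, AlgHom.mapMatrix_apply,
      Matrix.map_apply, Algebra.PreSubmersivePresentation.jacobiMatrix_apply]
    rw [← φ.symm_apply_apply j, pderiv_rename φ.symm.injective, aeval_rename]
    simp [φ, Function.comp_def, Equiv.ofBijective_apply_symm_apply]

variable {A' K' : Type u} [CommRing A'] [CommRing K'] [Algebra A' K']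

/-- Integral equations for a finite étale algebra over `A'[1/t]`. -/
theorem exists_scaled_equations (t' : A') [IsLocalization.Away t' K'] (C' : Type u) [CommRing C'] [Algebra K' C'] [Algebra A' C'] [IsScalarTower A' K' C']
    [Algebra.Etale K' C'] [Module.Finite K' C'] :
    ∃ (n : ℕ) (F : Fin n → MvPolynomial (Fin n) A') (z : Fin n → C'), (∀ i, IsIntegral A' (z i)) ∧
      Algebra.adjoin K' (Set.range z) = ⊤ ∧ (∀ i, aeval z (F i) = 0) ∧
        IsUnit (Matrix.of fun i j => aeval z (pderiv j (F i))).det := by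
  classical
  obtain ⟨n, G, x, hx, hG, hdet⟩ := exists_equations K' C'
  have hint : ∀ i, ∃ m : ℕ, IsIntegral A' (algebraMap A' C' t' ^ m * x i) := fun i => by
    obtain ⟨⟨_, m, rfl⟩, hm⟩ := IsIntegral.exists_multiple_integral_of_isLocalization
      (R := A') (Submonoid.powers t') (x i) (Algebra.IsIntegral.isIntegral (R := K') (x i))
    exact ⟨m, by rwa [Submonoid.smul_def, Algebra.smul_def, map_pow] at hm⟩
  choose m hm using hint
  let N := ∑ i, m i
  obtain ⟨s, hs⟩ := (IsLocalization.Away.algebraMap_isUnit (S := K') t').pow N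
  have hsC : algebraMap K' C' s = algebraMap A' C' t' ^ N := by
    rw [hs, map_pow, ← IsScalarTower.algebraMap_apply]
  let z : Fin n → C' := fun i => algebraMap K' C' s * x i
  have hzi : ∀ i, IsIntegral A' (z i) := fun i => by
    have := ((isIntegral_algebraMap (R := A') (A := C') (x := t')).pow (N - m i)).mul (hm i)
    rwa [← mul_assoc, ← pow_add, Nat.sub_add_cancel (Finset.single_le_sum (fun k _ => Nat.zero_le (m k)) (Finset.mem_univ i)),
      ← hsC] at this
  let sc : MvPolynomial (Fin n) K' →ₐ[K'] MvPolynomial (Fin n) K' := aeval fun i => C ((s⁻¹ : K'ˣ) : K') * X i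
  have hsc : ∀ p, aeval z (sc p) = aeval x p := fun p => by
    rw [comp_aeval_apply]
    refine congrArg (fun f => aeval f p) (funext fun i => ?_)
    rw [map_mul, aeval_C, aeval_X, ← mul_assoc, ← map_mul, Units.inv_mul, map_one, one_mul]
  obtain ⟨⟨_, d, rfl⟩, hd⟩ := IsLocalization.exist_integer_multiples_of_finset (Submonoid.powers t')
    (Finset.univ.biUnion fun i => (sc (G i)).coeffs)
  have hlift : ∀ i, ∃ F : MvPolynomial (Fin n) A', map (algebraMap A' K') F = C (algebraMap A' K' (t' ^ d)) * sc (G i) := fun i => by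
    refine MvPolynomial.mem_range_map_iff_coeffs_subset.2 fun a ha => ?_
    obtain ⟨μ, hμ, rfl⟩ := mem_coeffs_iff.1 ha
    rw [coeff_C_mul]
    by_cases h0 : (sc (G i)).coeff μ = 0
    · exact ⟨0, by rw [h0, mul_zero, map_zero]⟩
    · obtain ⟨r, hr⟩ := hd _ (Finset.mem_biUnion.2 ⟨i, Finset.mem_univ _, mem_coeffs_iff.2 ⟨μ, mem_support_iff.2 h0, rfl⟩⟩)
      exact ⟨r, by rw [hr, Algebra.smul_def]⟩
  choose F hF using hlift
  have hFz : ∀ (_ : Fin n) (p : MvPolynomial (Fin n) A'), aeval z p = aeval z (map (algebraMap A' K') p) := fun i p =>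
    (aeval_map_algebraMap K' z p).symm
  refine ⟨n, F, z, hzi, ?_, fun i => ?_, ?_⟩
  · rw [eq_top_iff]
    rintro c -
    obtain ⟨p, rfl⟩ := hx c
    rw [← hsc, Algebra.adjoin_range_eq_range_aeval]
    exact ⟨sc p, rfl⟩
  · rw [hFz i, hF, map_mul, hsc, hG, mul_zero]
  · have hu : IsUnit (algebraMap K' C' (algebraMap A' K' (t' ^ d) * ((s⁻¹ : K'ˣ) : K'))) :=
      (IsUnit.mul (by rw [map_pow]; exact (IsLocalization.Away.algebraMap_isUnit (S := K') t').pow d) (Units.isUnit _)).map _
    have e : (Matrix.of fun i j => aeval z (pderiv j (F i))) =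
        algebraMap K' C' (algebraMap A' K' (t' ^ d) * ((s⁻¹ : K'ˣ) : K')) • Matrix.of fun i j => aeval x (pderiv j (G i)) := by
      ext i j
      rw [Matrix.smul_apply, Matrix.of_apply, Matrix.of_apply, smul_eq_mul, hFz i, ← pderiv_map, hF, pderiv_C_mul,
        pderiv_scale, map_mul, map_mul, hsc, aeval_C, aeval_C, map_mul, mul_assoc]
    rw [e, Matrix.det_smul]
    exact (hu.pow _).mul hdet

theorem exists_lift_poly {A A' : Type u} [CommRing A] [CommRing A'] [Algebra A A'] (s : A') {n : ℕ}
    (h : ∀ a', ∃ a, a' - algebraMap A A' a ∈ Ideal.span {s}) (p : MvPolynomial (Fin n) A') :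
    ∃ g : MvPolynomial (Fin n) A, p - map (algebraMap A A') g ∈ Ideal.span {C s} := by
  induction p using MvPolynomial.induction_on with
  | C a =>
    obtain ⟨b, hb⟩ := h a
    obtain ⟨w, hw⟩ := Ideal.mem_span_singleton'.1 hb
    exact ⟨C b, Ideal.mem_span_singleton'.2 ⟨C w, by rw [map_C, ← C_mul, hw, C_sub]⟩⟩
  | add p q hp hq =>
    obtain ⟨g, hg⟩ := hp
    obtain ⟨g', hg'⟩ := hq
    exact ⟨g + g', by rw [map_add, add_sub_add_comm]; exact add_mem hg hg'⟩
  | mul_X p i hp =>
    obtain ⟨g, hg⟩ := hp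
    exact ⟨g * X i, by rw [map_mul, map_X, ← sub_mul]; exact Ideal.mul_mem_right _ _ hg⟩

/-- The open set where the Jacobian is invertible is étale. -/
theorem etale_jacobian_locus {K : Type u} [CommRing K] {n : ℕ} (G : Fin n → MvPolynomial (Fin n) K) :
    Algebra.Etale K (Localization.Away (Ideal.Quotient.mk (Ideal.span (Set.range G))
      (Matrix.of fun i j => pderiv j (G i)).det)) := by
  classical
  let P : Algebra.PreSubmersivePresentation K (MvPolynomial (Fin n) K ⧸ Ideal.span (Set.range G))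
      (Fin n) (Fin n) := Algebra.PreSubmersivePresentation.naive id Function.injective_id
  have hj : P.jacobian = Ideal.Quotient.mk (Ideal.span (Set.range G)) (Matrix.of fun i j => pderiv j (G i)).det := by
    rw [P.jacobian_eq_jacobiMatrix_det, ← Matrix.det_transpose (Matrix.of fun i j => pderiv j (G i))]
    refine congrArg (fun M : Matrix (Fin n) (Fin n) (MvPolynomial (Fin n) K) =>
      Ideal.Quotient.mk (Ideal.span (Set.range G)) M.det) (Matrix.ext fun i k => ?_)
    exact Algebra.PreSubmersivePresentation.jacobiMatrix_naive ..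
  rw [← hj]
  let Q := Algebra.PreSubmersivePresentation.localizationAway (Localization.Away P.jacobian) P.jacobian
  have hu : IsUnit (Q.comp P).jacobian := by
    rw [Algebra.PreSubmersivePresentation.comp_jacobian_eq_jacobian_smul_jacobian,
      Algebra.PreSubmersivePresentation.localizationAway_jacobian, Algebra.smul_def]
    exact (IsLocalization.Away.algebraMap_isUnit P.jacobian).mul (IsLocalization.Away.algebraMap_isUnit P.jacobian)
  let S' : Algebra.SubmersivePresentation K (Localization.Away P.jacobian) (Unit ⊕ Fin n) (Unit ⊕ Fin n) := ⟨Q.comp P, hu⟩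
  exact Algebra.Etale.iff_isStandardSmoothOfRelativeDimension_zero.mpr
    (S'.isStandardSmoothOfRelativeDimension (by simp [Algebra.Presentation.dimension]))

variable {A : Type u} [CommRing A] [Algebra A A'] {t : A} [Algebra A K'] [IsScalarTower A A' K']
  (K : Type u) [CommRing K] [Algebra A K] [IsLocalization.Away t K]
  [Algebra K K'] [IsScalarTower A K K'] [IsLocalization.Away (algebraMap A A' t) K']

/-- An étale algebra approximating a finite étale one. -/
theorem RigidPair.exists_etale_approx (h : RigidPair A A' t) (C' : Type u) [CommRing C'] [Algebra K' C']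
    [Algebra A' C'] [IsScalarTower A' K' C'] [Algebra K C'] [IsScalarTower K K' C']
    [Algebra.Etale K' C'] [Module.Finite K' C'] :
    ∃ (C₀ : Type u) (_ : CommRing C₀) (_ : Algebra K C₀) (_ : Algebra.Etale K C₀) (ψ : C₀ →ₐ[K] C'),
      Algebra.adjoin K' (Set.range ψ) = ⊤ := by
  classical
  letI : Algebra A C' := ((algebraMap A' C').comp (algebraMap A A')).toAlgebra
  haveI : IsScalarTower A A' C' := .of_algebraMap_eq' rfl
  haveI : IsScalarTower A K C' := .of_algebraMap_eq fun a => by
    rw [IsScalarTower.algebraMap_apply A A' C', IsScalarTower.algebraMap_apply A' K' C',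
      ← IsScalarTower.algebraMap_apply A A' K', IsScalarTower.algebraMap_apply A K K',
      ← IsScalarTower.algebraMap_apply K K' C']
  obtain ⟨n, F, z, hzi, hzgen, hFz, hdet⟩ := exists_scaled_equations (K' := K') (algebraMap A A' t) C'
  let B₀ := Algebra.adjoin A' (Set.range z)
  haveI : Module.Finite A' B₀ := Module.Finite.iff_fg.2 (fg_adjoin_of_finite (Set.finite_range z) (by rintro _ ⟨i, rfl⟩; exact hzi i))
  let t₀ : B₀ := algebraMap A' B₀ (algebraMap A A' t)
  haveI := h.henA'
  haveI : HenselianRing B₀ (Ideal.span {t₀}) := by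
    have := Hensel.henselianRing_of_isIntegral' (Ideal.span {algebraMap A A' t}) B₀
    rwa [Ideal.map_span, Set.image_singleton] at this
  have htC : IsUnit (algebraMap A' C' (algebraMap A A' t)) := by
    rw [IsScalarTower.algebraMap_apply A' K' C']
    exact (IsLocalization.Away.algebraMap_isUnit _).map _
  have htB : IsUnit (t₀ : C') := htC
  have hnzd : ∀ r : B₀, t₀ * r = 0 → r = 0 := fun r hr =>
    Subtype.ext (htB.mul_right_eq_zero.1 ((Subalgebra.coe_mul B₀ t₀ r).symm.trans (congrArg Subtype.val hr)))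
  have hmem : ∀ x : C', ∃ c : ℕ, (t₀ : C') ^ c * x ∈ B₀ := fun x => by
    have hx : x ∈ Algebra.adjoin K' (Set.range z) := by rw [hzgen]; trivial
    induction hx using Algebra.adjoin_induction with
    | mem x hx => exact ⟨0, by rw [pow_zero, one_mul]; exact Algebra.subset_adjoin hx⟩
    | algebraMap k =>
      obtain ⟨c, a, ha⟩ := IsLocalization.Away.surj (algebraMap A A' t) k
      refine ⟨c, ?_⟩
      have : (t₀ : C') ^ c * algebraMap K' C' k = algebraMap A' C' a := by
        rw [IsScalarTower.algebraMap_apply A' K' C' a, ← ha, map_mul, map_pow, ← IsScalarTower.algebraMap_apply, mul_comm]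
        rfl
      rw [this]
      exact B₀.algebraMap_mem a
    | add x y _ _ hx hy =>
      obtain ⟨i, hi⟩ := hx
      obtain ⟨j, hj⟩ := hy
      refine ⟨i + j, ?_⟩
      rw [mul_add, pow_add]
      refine add_mem ?_ ?_
      · rw [mul_comm ((t₀ : C') ^ i), mul_assoc]; exact mul_mem (pow_mem t₀.2 _) hi
      · rw [mul_assoc]; exact mul_mem (pow_mem t₀.2 _) hj
    | mul x y _ _ hx hy =>
      obtain ⟨i, hi⟩ := hx
      obtain ⟨j, hj⟩ := hy
      refine ⟨i + j, ?_⟩
      rw [pow_add, mul_mul_mul_comm]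
      exact mul_mem hi hj
  let zb : Fin n → B₀ := fun i => ⟨z i, Algebra.subset_adjoin ⟨i, rfl⟩⟩
  have hcoe : ∀ p : MvPolynomial (Fin n) A', ((aeval zb p : B₀) : C') = aeval z p := fun p =>
    comp_aeval_apply zb B₀.val p
  let δ : B₀ := (Matrix.of fun i j => aeval zb (pderiv j (F i))).det
  have hδ : (δ : C') = (Matrix.of fun i j => aeval z (pderiv j (F i))).det := by
    refine (B₀.val.map_det _).trans (congrArg Matrix.det (Matrix.ext fun i j => ?_))
    exact hcoe _
  obtain ⟨u, hu⟩ := hdet
  obtain ⟨c, hc⟩ := hmem ((u⁻¹ : C'ˣ) : C')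
  let w : B₀ := ⟨_, hc⟩
  have hδw : δ * w = t₀ ^ c := Subtype.ext (by
    show (δ : C') * ((t₀ : C') ^ c * ((u⁻¹ : C'ˣ) : C')) = (t₀ : C') ^ c
    rw [hδ, ← hu, mul_comm ((t₀ : C') ^ c), ← mul_assoc, Units.mul_inv, one_mul])
  choose g hg using fun i => exists_lift_poly (algebraMap A A' t ^ (2 * c + 1)) (h.surj (2 * c + 1)) (F i)
  have hqF : ∀ (D : MvPolynomial (Fin n) A' →ₗ[A'] MvPolynomial (Fin n) A') i,
      aeval zb (D (F i)) - aeval zb (D (map (algebraMap A A') (g i))) ∈ Ideal.span {t₀ ^ (2 * c + 1)} := fun D i => by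
    obtain ⟨r, hr⟩ := Ideal.mem_span_singleton'.1 (hg i)
    rw [← map_sub, ← map_sub D, ← hr, mul_comm r, ← smul_eq_C_mul, map_smul, map_smul, Algebra.smul_def, map_pow]
    exact Ideal.mul_mem_right _ _ (Ideal.mem_span_singleton_self _)
  let Gb : Fin n → MvPolynomial (Fin n) B₀ := fun i => map (algebraMap A B₀) (g i)
  have hGb : ∀ (a : Fin n → B₀) i, eval a (Gb i) = aeval a (map (algebraMap A A') (g i)) := fun a i => by
    rw [aeval_map_algebraMap, aeval_def, eval_map]
  have hGbd : ∀ (a : Fin n → B₀) i j, eval a (pderiv j (Gb i)) = aeval a (map (algebraMap A A') (pderiv j (g i))) := fun a i j => by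
    rw [pderiv_map, aeval_map_algebraMap, aeval_def, eval_map]
  let M : (Fin n → B₀) → B₀ := fun a => (Matrix.of fun i j => eval a (pderiv j (Gb i))).det
  have hMδ : δ - M zb ∈ Ideal.span {t₀ ^ (2 * c + 1)} := by
    rw [← Ideal.Quotient.eq]
    rw [RingHom.map_det, RingHom.map_det]
    refine congrArg Matrix.det (Matrix.ext fun i j => ?_)
    simp only [RingHom.mapMatrix_apply, Matrix.map_apply, Matrix.of_apply]
    rw [hGbd, ← pderiv_map]
    exact Ideal.Quotient.eq.2 (hqF (pderiv j).toLinearMap i)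
  have hunit : ∀ r : B₀, IsUnit (1 + t₀ * r) := fun r => by
    have := (Ideal.mem_jacobson_bot).1 (HenselianRing.jac (I := Ideal.span {t₀}) (Ideal.mem_span_singleton_self t₀)) r
    rwa [add_comm] at this
  obtain ⟨r, hr⟩ := Ideal.mem_span_singleton'.1 hMδ
  obtain ⟨v, hv⟩ := hunit (-(t₀ ^ c * r * w))
  have hMw : M zb * (w * ((v⁻¹ : B₀ˣ) : B₀)) = t₀ ^ c := by
    have e1 : M zb * w = t₀ ^ c * v := by
      rw [hv, show M zb = δ - r * t₀ ^ (2 * c + 1) by rw [hr]; ring, sub_mul, hδw]
      ring
    rw [← mul_assoc, e1, mul_assoc, Units.mul_inv, mul_one]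
  obtain ⟨y, hyz, hy⟩ := exists_root_near t₀ hnzd Gb zb c _ hMw (fun i => by
    have h0 : aeval zb (F i) = 0 := Subtype.ext ((hcoe _).trans (hFz i))
    have := hqF LinearMap.id i
    rw [LinearMap.id_apply, LinearMap.id_apply, h0, zero_sub, neg_mem_iff] at this
    rwa [hGb])
  have hMy : IsUnit ((M y : B₀) : C') := by
    have h1 : M y - M zb ∈ Ideal.span {t₀ ^ (c + 1)} := by
      rw [← Ideal.Quotient.eq, RingHom.map_det, RingHom.map_det]
      refine congrArg Matrix.det (Matrix.ext fun i j => ?_)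
      simp only [RingHom.mapMatrix_apply, Matrix.map_apply, Matrix.of_apply]
      rw [← aeval_eq_eval, ← aeval_eq_eval, ← Ideal.Quotient.mkₐ_eq_mk B₀, comp_aeval_apply, comp_aeval_apply]
      refine congrArg (fun f => aeval f (pderiv j (Gb i))) (funext fun k => ?_)
      exact Ideal.Quotient.eq.2 (hyz k)
    obtain ⟨r', hr'⟩ := Ideal.mem_span_singleton'.1 h1
    obtain ⟨v', hv'⟩ := hunit (r' * (w * ((v⁻¹ : B₀ˣ) : B₀)))
    have e2 : M y * (w * ((v⁻¹ : B₀ˣ) : B₀)) = t₀ ^ c * v' := by
      rw [hv', show M y = M zb + r' * t₀ ^ (c + 1) by rw [hr']; ring, add_mul, hMw]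
      ring
    have e3 : IsUnit (((t₀ ^ c * v' : B₀)) : C') := by
      rw [Subalgebra.coe_mul, Subalgebra.coe_pow]
      exact (htB.pow c).mul (v'.isUnit.map B₀.val)
    rw [← e2, Subalgebra.coe_mul] at e3
    exact isUnit_of_mul_isUnit_left e3
  -- the étale algebra
  let GK : Fin n → MvPolynomial (Fin n) K := fun i => map (algebraMap A K) (g i)
  let yC : Fin n → C' := fun i => (y i : C')
  have hyK : ∀ p : MvPolynomial (Fin n) A, aeval yC (map (algebraMap A K) p) = ((eval y (map (algebraMap A B₀) p) : B₀) : C') := fun p => by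
    rw [aeval_map_algebraMap, eval_map, ← aeval_def]
    exact (comp_aeval_apply y (B₀.val.restrictScalars A) p).symm
  let T := MvPolynomial (Fin n) K ⧸ Ideal.span (Set.range GK)
  let φT : T →ₐ[K] C' := Ideal.Quotient.liftₐ _ (aeval yC) (fun p hp => by
    refine (Ideal.span_le.2 ?_ : _ ≤ RingHom.ker (aeval yC : MvPolynomial (Fin n) K →ₐ[K] C')) hp
    rintro _ ⟨i, rfl⟩
    show aeval yC (map (algebraMap A K) (g i)) = 0
    rw [hyK]
    exact congrArg Subtype.val (hy i))
  let Δ : T := Ideal.Quotient.mk _ (Matrix.of fun i j => pderiv j (GK i)).det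
  have hΔ : IsUnit (φT Δ) := by
    show IsUnit (aeval yC (Matrix.of fun i j => pderiv j (GK i)).det)
    rw [AlgHom.map_det]
    convert hMy
    rw [show ((M y : B₀) : C') = _ from B₀.val.map_det _]
    refine congrArg Matrix.det (Matrix.ext fun i j => ?_)
    simp only [AlgHom.mapMatrix_apply, Matrix.map_apply, Matrix.of_apply, GK, Gb, pderiv_map]
    exact hyK _
  let ψ : Localization.Away Δ →ₐ[K] C' := IsLocalization.Away.liftAlgHom Δ hΔ
  refine ⟨Localization.Away Δ, inferInstance, inferInstance, etale_jacobian_locus GK, ψ, ?_⟩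
  let S := Algebra.adjoin K' (Set.range ψ)
  have hyS : ∀ i, yC i ∈ S := fun i => Algebra.subset_adjoin ⟨algebraMap T _ (Ideal.Quotient.mk _ (X i)), by
    show ψ (algebraMap T (Localization.Away Δ) (Ideal.Quotient.mk (Ideal.span (Set.range GK)) (X i))) = yC i
    simp [ψ, φT]
    exact aeval_X _ i⟩
  let N : Submodule A' B₀ := Subalgebra.toSubmodule (Algebra.adjoin A' (Set.range y))
  have hN : (⊤ : Submodule A' B₀) ≤ N := by
    refine Submodule.le_of_le_smul_of_le_jacobson_bot (Module.Finite.fg_top) (I := Ideal.span {algebraMap A A' t})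
      (HenselianRing.jac (I := Ideal.span {algebraMap A A' t})) fun x _ => ?_
    obtain ⟨p, hp⟩ : ∃ p : MvPolynomial (Fin n) A', aeval z p = (x : C') := by
      have h2 : (x : C') ∈ (aeval z : MvPolynomial (Fin n) A' →ₐ[A'] C').range := by
        rw [← Algebra.adjoin_range_eq_range_aeval]
        exact x.2
      exact h2
    have hx : x = aeval zb p := Subtype.ext (hp.symm.trans (hcoe p).symm)
    have h3 : aeval zb p - aeval y p ∈ Ideal.span {t₀} := by
      rw [← Ideal.Quotient.eq, ← Ideal.Quotient.mkₐ_eq_mk A', comp_aeval_apply, comp_aeval_apply]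
      refine congrArg (fun f => aeval f p) (funext fun k => Ideal.Quotient.eq.2 ?_)
      rw [← neg_sub, neg_mem_iff]
      exact Ideal.span_singleton_le_span_singleton.2 (dvd_pow_self _ (Nat.succ_ne_zero c)) (hyz k)
    obtain ⟨q, hq⟩ := Ideal.mem_span_singleton'.1 h3
    refine Submodule.mem_sup.2 ⟨aeval y p, ?_, q * t₀, ?_, by rw [hq, hx]; ring⟩
    · show aeval y p ∈ Algebra.adjoin A' (Set.range y)
      rw [Algebra.adjoin_range_eq_range_aeval]
      exact ⟨p, rfl⟩
    · rw [show q * t₀ = algebraMap A A' t • q by rw [Algebra.smul_def, mul_comm]]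
      exact Submodule.smul_mem_smul (Ideal.mem_span_singleton_self _) Submodule.mem_top
  rw [eq_top_iff, ← hzgen, Algebra.adjoin_le_iff]
  rintro _ ⟨i, rfl⟩
  have h4 : zb i ∈ Algebra.adjoin A' (Set.range y) := hN Submodule.mem_top
  have h5 : (Algebra.adjoin A' (Set.range y)).map B₀.val ≤ S.restrictScalars A' := by
    rw [AlgHom.map_adjoin, Algebra.adjoin_le_iff]
    rintro _ ⟨_, ⟨k, rfl⟩, rfl⟩
    exact hyS k
  exact h5 ⟨zb i, h4, rfl⟩

end Groth.Agent.RigFEt7
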