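import Groth.Agent.Rig7.Main

/-!
Rigidity away from an element: finite algebras over `A[1/t]` and their base change to `A'[1/t]` have the
same idempotents when `(A, t)` and `(A', t)` are henselian with the same truncations.
-/

set_option autoImplicit false

universe u
open TensorProduct

namespace Groth.Agent.RigFEt7

/-- Two henselian pairs along an element with the same truncations. -/
structure RigidPair (A A' : Type u) [CommRing A] [CommRing A'] [Algebra A A'] (t : A) : Prop where
  henA : HenselianRing A (Ideal.span {t})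
  henA' : HenselianRing A' (Ideal.span {algebraMap A A' t})
  inj : ∀ (n : ℕ) a, algebraMap A A' a ∈ Ideal.span {algebraMap A A' t ^ n} → a ∈ Ideal.span {t ^ n}
  surj : ∀ (n : ℕ) a', ∃ a, a' - algebraMap A A' a ∈ Ideal.span {algebraMap A A' t ^ n}

theorem map_span_singleton_pow {R S : Type u} [CommRing R] [CommRing S] (f : R →+* S) (t : R) (n : ℕ) :
    (Ideal.span {t} ^ n).map f = Ideal.span {f t ^ n} := by
  rw [Ideal.span_singleton_pow, Ideal.map_span, Set.image_singleton, map_pow]

section clop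

open Rig7

/-- Algebras with the same truncations have the same clopens away from `t`. -/
theorem clopBij_of_quotients {R S : Type u} [CommRing R] [CommRing S] (ι : R →+* S) (t : R)
    [HenselianRing R (Ideal.span {t})] [HenselianRing S (Ideal.span {ι t})]
    (hinj : ∀ (n : ℕ) a, ι a ∈ Ideal.span {ι t ^ n} → a ∈ Ideal.span {t ^ n})
    (hsurj : ∀ (n : ℕ) s, ∃ a, s - ι a ∈ Ideal.span {ι t ^ n}) :
    ClopBij ι {x : PrimeSpectrum R | t ∉ x.asIdeal} := by
  let I : Ideal R := Ideal.span {t}
  let J : Ideal S := Ideal.span {ι t}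
  have hle : ∀ n, I ^ n ≤ (J ^ n).comap ι := fun n => by
    rw [← Ideal.map_le_iff_le_comap, map_span_singleton_pow, Ideal.span_singleton_pow]
  let q : ∀ n, R ⧸ I ^ n →+* S ⧸ J ^ n := fun n => Ideal.quotientMap (J ^ n) ι (hle n)
  have hq : ∀ n, Function.Bijective (q n) := fun n => by
    refine ⟨(injective_iff_map_eq_zero _).2 fun z hz => ?_, fun z => ?_⟩
    · obtain ⟨a, rfl⟩ := Ideal.Quotient.mk_surjective z
      rw [Ideal.quotientMap_mk, Ideal.Quotient.eq_zero_iff_mem, Ideal.span_singleton_pow] at hz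
      exact Ideal.Quotient.eq_zero_iff_mem.2 (by rw [Ideal.span_singleton_pow]; exact hinj n a hz)
    · obtain ⟨s, rfl⟩ := Ideal.Quotient.mk_surjective z
      obtain ⟨a, ha⟩ := hsurj n s
      refine ⟨Ideal.Quotient.mk _ a, (Ideal.Quotient.eq.2 ?_).symm⟩
      rw [Ideal.span_singleton_pow]
      exact ha
  have hqc : ∀ {m n : ℕ} (h : m ≤ n), (Ideal.Quotient.factorPow J h).comp (q n) =
      (q m).comp (Ideal.Quotient.factorPow I h) := fun h => Ideal.Quotient.ringHom_ext (RingHom.ext fun a => rfl)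
  have hevc : ∀ {m n : ℕ} (h : m ≤ n) (x : AdicCompletion I R),
      Ideal.Quotient.factorPow I h (AdicCompletion.evalₐ I n x) = AdicCompletion.evalₐ I m x := fun h x => by
    obtain ⟨z, rfl⟩ := AdicCompletion.mk_surjective I R x
    rw [AdicCompletion.evalₐ_mk, AdicCompletion.evalₐ_mk, Ideal.Quotient.factorPow, Ideal.Quotient.factor_mk]
    refine Ideal.Quotient.eq.2 ?_
    have h2 := (z.2 h).symm
    rwa [SModEq.sub_mem, smul_eq_mul, Ideal.mul_top] at h2
  let j : AdicCompletion I R →+* AdicCompletion J S :=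
    AdicCompletion.liftRingHom J (fun n => (q n).comp (AdicCompletion.evalₐ I n).toRingHom) (fun {m n} h => by
      rw [← RingHom.comp_assoc, hqc, RingHom.comp_assoc]
      exact congrArg (RingHom.comp (q m)) (RingHom.ext (hevc h)))
  have hj : ∀ n x, AdicCompletion.evalₐ J n (j x) = q n (AdicCompletion.evalₐ I n x) := fun n x =>
    AdicCompletion.evalₐ_liftRingHom J _ _ n x
  have hjinj : Function.Injective j := fun x y h => AdicCompletion.ext_evalₐ fun n => (hq n).1 (by rw [← hj, ← hj, h])
  have hjsurj : Function.Surjective j := fun y => by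
    have hevJ : ∀ {m n : ℕ} (h : m ≤ n),
        Ideal.Quotient.factorPow J h (AdicCompletion.evalₐ J n y) = AdicCompletion.evalₐ J m y := fun h => by
      obtain ⟨z, rfl⟩ := AdicCompletion.mk_surjective J S y
      rw [AdicCompletion.evalₐ_mk, AdicCompletion.evalₐ_mk, Ideal.Quotient.factorPow, Ideal.Quotient.factor_mk]
      refine Ideal.Quotient.eq.2 ?_
      have h2 := (z.2 h).symm
      rwa [SModEq.sub_mem, smul_eq_mul, Ideal.mul_top] at h2
    choose c hc using fun n => Ideal.Quotient.mk_surjective ((RingEquiv.ofBijective _ (hq n)).symm (AdicCompletion.evalₐ J n y))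
    have hcq : ∀ n, q n (Ideal.Quotient.mk _ (c n)) = AdicCompletion.evalₐ J n y := fun n => by
      rw [hc n]
      exact (RingEquiv.ofBijective _ (hq n)).apply_symm_apply _
    refine ⟨AdicCompletion.mk I R ⟨c, fun {m n} h => ?_⟩, AdicCompletion.ext_evalₐ fun n => ?_⟩
    · rw [SModEq.sub_mem, smul_eq_mul, Ideal.mul_top]
      refine Ideal.Quotient.eq.1 ((hq m).1 ?_)
      rw [hcq m, ← hevJ h, ← hcq n]
      exact (RingHom.congr_fun (hqc h) (Ideal.Quotient.mk _ (c n))).symm
    · rw [hj, AdicCompletion.evalₐ_mk]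
      exact hcq n
  have hγ : (algebraMap S (AdicCompletion J S)).comp ι = j.comp (algebraMap R (AdicCompletion I R)) :=
    RingHom.ext fun a => AdicCompletion.ext_evalₐ fun n => by
      rw [RingHom.comp_apply, RingHom.comp_apply, hj, Rig7.eval_algebraMap, Rig7.eval_algebraMap]
      rfl
  let U : Set (PrimeSpectrum R) := {x | t ∉ x.asIdeal}
  have hU : ∀ {T : Type u} [CommRing T] (a : T), IsOpen {x : PrimeSpectrum T | a ∉ x.asIdeal} ∧
      IsCompact {x : PrimeSpectrum T | a ∉ x.asIdeal} ∧ ∀ x ∉ {x : PrimeSpectrum T | a ∉ x.asIdeal}, Ideal.span {a} ≤ x.asIdeal :=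
    fun a => ⟨(PrimeSpectrum.basicOpen a).2, PrimeSpectrum.isCompact_basicOpen a,
      fun x hx => (Ideal.span_singleton_le_iff_mem _).2 (not_not.1 hx)⟩
  have h1 : ClopBij ((algebraMap S (AdicCompletion J S)).comp ι) U := by
    rw [hγ]
    exact (clopBij_completion I (Submodule.fg_span_singleton t) U (hU t).1 (hU t).2.1 (hU t).2.2).comp
      (clopBij_of_homeomorph hjsurj (fun x hx => ⟨1, by rw [pow_one]; exact hjinj (by rw [hx, map_zero])⟩) _)
  have h2 : ClopBij (algebraMap S (AdicCompletion J S)) (PrimeSpectrum.comap ι ⁻¹' U) :=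
    clopBij_completion J (Submodule.fg_span_singleton _) _ (hU (ι t)).1 (hU (ι t)).2.1 (hU (ι t)).2.2
  intro W hW
  obtain ⟨V, ⟨hV, hVe⟩, hu⟩ := h1 (PrimeSpectrum.comap (algebraMap S (AdicCompletion J S)) ⁻¹' W) (by
    have := hW.preimage (φ := algebraMap S (AdicCompletion J S))
    rwa [PrimeSpectrum.comap_comp, Set.preimage_comp])
  rw [PrimeSpectrum.comap_comp, Set.preimage_comp] at hVe
  obtain ⟨W', -, hu'⟩ := h2 _ hW.preimage
  refine ⟨V, ⟨hV, (hu' _ ⟨hV.preimage, hVe⟩).trans (hu' _ ⟨hW, rfl⟩).symm⟩, fun V₁ ⟨hV₁, e⟩ => hu V₁ ⟨hV₁, ?_⟩⟩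
  rw [PrimeSpectrum.comap_comp, Set.preimage_comp, e]

end clop

variable {A A' : Type u} [CommRing A] [CommRing A'] [Algebra A A'] {t : A}

/-- Finite algebras over a rigid pair. -/
theorem RigidPair.baseChange (h : RigidPair A A' t) (D : Type u) [CommRing D] [Algebra A D] [Module.Finite A D] :
    Rig7.ClopBij (Algebra.TensorProduct.includeRight : D →ₐ[A] A' ⊗[A] D).toRingHom
      {x : PrimeSpectrum D | algebraMap A D t ∉ x.asIdeal} := by
  have htt : (Algebra.TensorProduct.includeRight : D →ₐ[A] A' ⊗[A] D).toRingHom (algebraMap A D t) =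
      algebraMap A' (A' ⊗[A] D) (algebraMap A A' t) := by
    show (Algebra.TensorProduct.includeRight : D →ₐ[A] A' ⊗[A] D) (algebraMap A D t) = _
    rw [AlgHom.commutes, IsScalarTower.algebraMap_apply A A' (A' ⊗[A] D)]
  haveI := h.henA
  haveI := h.henA'
  haveI : HenselianRing D (Ideal.span {algebraMap A D t}) := by
    have := Hensel.henselianRing_of_isIntegral' (Ideal.span {t}) D
    rwa [Ideal.map_span, Set.image_singleton] at this
  haveI : HenselianRing (A' ⊗[A] D)
      (Ideal.span {(Algebra.TensorProduct.includeRight : D →ₐ[A] A' ⊗[A] D).toRingHom (algebraMap A D t)}) := by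
    have := Hensel.henselianRing_of_isIntegral' (Ideal.span {algebraMap A A' t}) (A' ⊗[A] D)
    rwa [Ideal.map_span, Set.image_singleton, ← htt] at this
  refine clopBij_of_quotients _ _ (fun n d hd => ?_) (fun n s => ?_)
  · -- a left inverse modulo `t ^ n`
    let I : Ideal D := Ideal.span {algebraMap A D t ^ n}
    have hn : ∀ a', ∃! c : D ⧸ I, ∀ a, a' - algebraMap A A' a ∈ Ideal.span {algebraMap A A' t ^ n} →
        c = algebraMap A (D ⧸ I) a := fun a' => by
      obtain ⟨a₀, ha₀⟩ := h.surj n a'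
      refine ⟨algebraMap A (D ⧸ I) a₀, fun a ha => ?_, fun c hc => hc a₀ ha₀⟩
      have h1 := h.inj n (a₀ - a) (by
        have := sub_mem ha ha₀
        rwa [map_sub, show algebraMap A A' a₀ - algebraMap A A' a =
          a' - algebraMap A A' a - (a' - algebraMap A A' a₀) by ring])
      obtain ⟨w, hw⟩ := Ideal.mem_span_singleton'.1 h1
      rw [← sub_eq_zero, ← map_sub, ← hw, map_mul, map_pow, IsScalarTower.algebraMap_apply A D (D ⧸ I),
        IsScalarTower.algebraMap_apply A D (D ⧸ I), ← map_pow, ← map_mul]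
      exact Ideal.Quotient.eq_zero_iff_mem.2 (Ideal.mul_mem_left _ _ (Ideal.mem_span_singleton_self _))
    choose c hc _ using hn
    have hz : ∀ a, c (algebraMap A A' a) = algebraMap A (D ⧸ I) a := fun a =>
      hc _ a (by rw [sub_self]; exact zero_mem _)
    let f : A' →ₐ[A] D ⧸ I :=
      { toFun := c
        map_one' := by simpa using hz 1
        map_zero' := by simpa using hz 0
        map_mul' := fun x y => by
          obtain ⟨a, ha⟩ := h.surj n x
          obtain ⟨b, hb⟩ := h.surj n y
          rw [hc _ (a * b), hc _ a ha, hc _ b hb, map_mul]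
          rw [map_mul, show x * y - algebraMap A A' a * algebraMap A A' b =
            (x - algebraMap A A' a) * y + algebraMap A A' a * (y - algebraMap A A' b) by ring]
          exact add_mem (Ideal.mul_mem_right _ _ ha) (Ideal.mul_mem_left _ _ hb)
        map_add' := fun x y => by
          obtain ⟨a, ha⟩ := h.surj n x
          obtain ⟨b, hb⟩ := h.surj n y
          rw [hc _ (a + b), hc _ a ha, hc _ b hb, map_add]
          rw [map_add, show x + y - (algebraMap A A' a + algebraMap A A' b) =
            (x - algebraMap A A' a) + (y - algebraMap A A' b) by ring]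
          exact add_mem ha hb
        commutes' := hz }
    let Λ := Algebra.TensorProduct.lift f (Ideal.Quotient.mkₐ A I) fun _ _ => Commute.all _ _
    obtain ⟨w, hw⟩ := Ideal.mem_span_singleton'.1 hd
    have h2 := congrArg Λ hw
    rw [map_mul, map_pow] at h2
    have hΛ : ∀ d, Λ ((Algebra.TensorProduct.includeRight : D →ₐ[A] A' ⊗[A] D).toRingHom d) = Ideal.Quotient.mk I d := fun d => by
      show Λ (1 ⊗ₜ[A] d) = _
      simp [Λ]
    rw [hΛ, hΛ, ← map_pow, Ideal.Quotient.eq_zero_iff_mem.2 (Ideal.mem_span_singleton_self _), mul_zero] at h2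
    exact Ideal.Quotient.eq_zero_iff_mem.1 h2.symm
  · induction s using TensorProduct.induction_on with
    | zero => exact ⟨0, by simp⟩
    | tmul a' d =>
      obtain ⟨a, ha⟩ := h.surj n a'
      refine ⟨a • d, ?_⟩
      show a' ⊗ₜ[A] d - (1 : A') ⊗ₜ[A] (a • d) ∈ _
      obtain ⟨w, hw⟩ := Ideal.mem_span_singleton'.1 ha
      rw [← TensorProduct.smul_tmul, ← TensorProduct.sub_tmul, Algebra.smul_def, mul_one, ← hw, htt, ← map_pow]
      refine Ideal.mem_span_singleton'.2 ⟨w ⊗ₜ[A] d, ?_⟩
      rw [Algebra.TensorProduct.algebraMap_apply, Algebra.algebraMap_self_apply, Algebra.TensorProduct.tmul_mul_tmul, mul_one]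
    | add x y hx hy =>
      obtain ⟨a, ha⟩ := hx
      obtain ⟨b, hb⟩ := hy
      refine ⟨a + b, ?_⟩
      rw [map_add, add_sub_add_comm]
      exact add_mem ha hb

variable (K K' : Type u) [CommRing K] [CommRing K'] [Algebra A K] [IsLocalization.Away t K]
  [Algebra A K'] [Algebra A' K'] [IsScalarTower A A' K'] [IsLocalization.Away (algebraMap A A' t) K']
  [Algebra K K'] [IsScalarTower A K K']

/-- Inverting an element commutes with base change. -/
theorem isLocalization_away_tensor (D L : Type u) [CommRing D] [Algebra A D] [CommRing L] [Algebra A L] [Algebra D L]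
    [IsScalarTower A D L] (r : D) [IsLocalization.Away r L] (B : Type u) [CommRing B] [Algebra A B] :
    @IsLocalization.Away (B ⊗[A] D) _ (1 ⊗ₜ r) (B ⊗[A] L) _
      (Algebra.TensorProduct.map (AlgHom.id A B) (IsScalarTower.toAlgHom A D L)).toRingHom.toAlgebra := by
  let T := B ⊗[A] D
  let m := Algebra.TensorProduct.map (AlgHom.id A B) (IsScalarTower.toAlgHom A D L)
  letI : Algebra T (B ⊗[A] L) := m.toRingHom.toAlgebra
  let M := Localization.Away (1 ⊗ₜ r : T)
  have hm : IsUnit (m (1 ⊗ₜ r)) := by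
    show IsUnit ((1 : B) ⊗ₜ[A] algebraMap D L r)
    exact (IsLocalization.Away.algebraMap_isUnit r).map (Algebra.TensorProduct.includeRight : L →ₐ[A] B ⊗[A] L)
  let F : M →ₐ[T] B ⊗[A] L := IsLocalization.Away.liftAlgHom (1 ⊗ₜ r : T) (f := Algebra.ofId T (B ⊗[A] L)) hm
  let g₁ : B →ₐ[A] M := (IsScalarTower.toAlgHom A T M).comp Algebra.TensorProduct.includeLeft
  let g₂₀ : D →ₐ[A] M := (IsScalarTower.toAlgHom A T M).comp Algebra.TensorProduct.includeRight
  have hr : IsUnit (g₂₀ r) := IsLocalization.Away.algebraMap_isUnit (1 ⊗ₜ r : T)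
  let g₂ : L →ₐ[A] M := IsLocalization.Away.liftAlgHom r hr
  let G : B ⊗[A] L →ₐ[A] M := Algebra.TensorProduct.lift g₁ g₂ fun _ _ => Commute.all _ _
  have hg₂ : ∀ d, g₂ (algebraMap D L d) = g₂₀ d := fun d => IsLocalization.lift_eq _ _
  have hGm : ∀ x : T, G (m x) = algebraMap T M x := fun x => by
    induction x using TensorProduct.induction_on with
    | zero => simp
    | tmul b d =>
      show G (b ⊗ₜ[A] algebraMap D L d) = _
      rw [Algebra.TensorProduct.lift_tmul, hg₂]
      show algebraMap T M (b ⊗ₜ 1) * algebraMap T M (1 ⊗ₜ d) = _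
      rw [← map_mul, Algebra.TensorProduct.tmul_mul_tmul, mul_one, one_mul]
    | add x y hx hy => rw [map_add, map_add, map_add, hx, hy]
  have e1 : G.toRingHom.comp F.toRingHom = RingHom.id M := by
    refine IsLocalization.ringHom_ext (Submonoid.powers (1 ⊗ₜ r : T)) (RingHom.ext fun x => ?_)
    show G (F (algebraMap T M x)) = algebraMap T M x
    rw [F.commutes]
    exact hGm x
  have e2 : (F.restrictScalars A).comp G = AlgHom.id A (B ⊗[A] L) := by
    refine Algebra.TensorProduct.ext (AlgHom.ext fun b => ?_) ?_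
    · show F (G (b ⊗ₜ 1)) = b ⊗ₜ[A] (1 : L)
      rw [Algebra.TensorProduct.lift_tmul, map_one, mul_one]
      show F (algebraMap T M (b ⊗ₜ 1)) = _
      rw [F.commutes]
      show m (b ⊗ₜ 1) = _
      simp [m]
    · refine AlgHom.coe_ringHom_injective (IsLocalization.ringHom_ext (Submonoid.powers r) (RingHom.ext fun d => ?_))
      show F (G ((1 : B) ⊗ₜ algebraMap D L d)) = (1 : B) ⊗ₜ[A] algebraMap D L d
      rw [Algebra.TensorProduct.lift_tmul, map_one, one_mul, hg₂]
      show F (algebraMap T M (1 ⊗ₜ d)) = _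
      rw [F.commutes]
      rfl
  exact IsLocalization.isLocalization_of_algEquiv (Submonoid.powers (1 ⊗ₜ r : T))
    (AlgEquiv.ofBijective F ⟨fun x y hxy => (RingHom.congr_fun e1 x).symm.trans ((congrArg G hxy).trans (RingHom.congr_fun e1 y)),
      fun y => ⟨G y, AlgHom.congr_fun e2 y⟩⟩)

theorem relClopen_image {T L : Type u} [CommRing T] [CommRing L] [Algebra T L] (r : T) [IsLocalization.Away r L]
    (e : L) (he : IsIdempotentElem e) :
    Rig7.RelClopen {x : PrimeSpectrum T | r ∉ x.asIdeal}
      (PrimeSpectrum.comap (algebraMap T L) '' (PrimeSpectrum.basicOpen e : Set (PrimeSpectrum L))) := by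
  have hj := PrimeSpectrum.localization_away_isOpenEmbedding L r
  have hr : Set.range (PrimeSpectrum.comap (algebraMap T L)) = {x : PrimeSpectrum T | r ∉ x.asIdeal} :=
    PrimeSpectrum.localization_away_comap_range L r
  refine ⟨hr ▸ Set.image_subset_range _ _, hj.isOpenMap _ (PrimeSpectrum.basicOpen e).2, ?_⟩
  rw [← hr, ← Set.image_univ, ← Set.image_diff hj.injective]
  refine hj.isOpenMap _ ?_
  rw [← Set.compl_eq_univ_sdiff]
  exact (PrimeSpectrum.isClopen_iff.2 ⟨e, he, rfl⟩).compl.isOpen

omit [Algebra A K'] [Algebra A' K'] [IsScalarTower A A' K'] [IsLocalization.Away (algebraMap A A' t) K'] [Algebra K K'] in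
/-- A finite algebra over `A[1/t]` comes from a finite `A`-algebra. -/
theorem exists_lattice (C : Type u) [CommRing C] [Algebra K C] [Module.Finite K C] [Algebra A C]
    [IsScalarTower A K C] :
    ∃ D : Subalgebra A C, Module.Finite A D ∧ IsLocalization.Away (algebraMap A D t) C := by
  classical
  obtain ⟨s, hs⟩ := (inferInstance : Module.Finite K C).fg_top
  have hint : ∀ x : C, ∃ m : ℕ, IsIntegral A (algebraMap A C t ^ m * x) := fun x => by
    obtain ⟨⟨_, m, rfl⟩, hm⟩ := IsIntegral.exists_multiple_integral_of_isLocalization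
      (R := A) (Submonoid.powers t) x (Algebra.IsIntegral.isIntegral (R := K) x)
    refine ⟨m, ?_⟩
    rwa [Submonoid.smul_def, Algebra.smul_def, map_pow] at hm
  choose m hm using hint
  let g : Finset C := s.image fun x => algebraMap A C t ^ m x * x
  let D := Algebra.adjoin A (g : Set C)
  refine ⟨D, Module.Finite.iff_fg.2 (fg_adjoin_of_finite g.finite_toSet fun z hz => ?_), ?_⟩
  · obtain ⟨x, -, rfl⟩ := Finset.mem_image.1 hz
    exact hm x
  have htC : IsUnit (algebraMap A C t) := by
    rw [IsScalarTower.algebraMap_apply A K C]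
    exact (IsLocalization.Away.algebraMap_isUnit t).map _
  refine IsLocalization.Away.mk _ htC (fun c => ?_) fun a b hab => ⟨0, by
    rw [pow_zero, one_mul, one_mul]; exact Subtype.ext hab⟩
  have hc : c ∈ Submodule.span K (s : Set C) := by rw [hs]; trivial
  suffices ∃ n : ℕ, c * algebraMap A C t ^ n ∈ D by
    obtain ⟨n, hn⟩ := this
    exact ⟨n, ⟨_, hn⟩, rfl⟩
  induction hc using Submodule.span_induction with
  | mem x hx => exact ⟨m x, by rw [mul_comm]; exact Algebra.subset_adjoin (Finset.mem_image_of_mem _ hx)⟩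
  | zero => exact ⟨0, by rw [zero_mul]; exact zero_mem _⟩
  | add x y _ _ hx hy =>
    obtain ⟨i, hi⟩ := hx
    obtain ⟨j, hj⟩ := hy
    refine ⟨i + j, ?_⟩
    rw [add_mul, pow_add]
    refine add_mem ?_ ?_
    · rw [← mul_assoc]; exact mul_mem hi (pow_mem (D.algebraMap_mem t) _)
    · rw [mul_comm (algebraMap A C t ^ i), ← mul_assoc]; exact mul_mem hj (pow_mem (D.algebraMap_mem t) _)
  | smul k x _ hx =>
    obtain ⟨i, hi⟩ := hx
    obtain ⟨j, a, ha⟩ := IsLocalization.Away.surj t k
    refine ⟨j + i, ?_⟩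
    have : k • x * algebraMap A C t ^ (j + i) = algebraMap A C a * (x * algebraMap A C t ^ i) := by
      rw [IsScalarTower.algebraMap_apply A K C a, ← ha, map_mul, map_pow, ← IsScalarTower.algebraMap_apply,
        Algebra.smul_def, pow_add]
      ring
    rw [this]
    exact mul_mem (D.algebraMap_mem a) hi

/-- Idempotents of finite algebras over `A[1/t]` are those of the base change to `A'[1/t]`. -/
theorem RigidPair.existsUnique_idempotent (h : RigidPair A A' t) (C : Type u) [CommRing C] [Algebra K C]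
    [Module.Finite K C] (e' : K' ⊗[K] C) (he' : IsIdempotentElem e') :
    ∃! e : C, IsIdempotentElem e ∧ (1 : K') ⊗ₜ[K] e = e' := by
  letI : Algebra A C := ((algebraMap K C).comp (algebraMap A K)).toAlgebra
  haveI : IsScalarTower A K C := .of_algebraMap_eq' rfl
  obtain ⟨D, hD, hDC⟩ := exists_lattice (t := t) K C
  have hclop := h.baseChange D
  let T := A' ⊗[A] D
  let L := A' ⊗[A] C
  letI : Algebra T L := (Algebra.TensorProduct.map (AlgHom.id A A') (IsScalarTower.toAlgHom A D C)).toRingHom.toAlgebra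
  haveI hTL : IsLocalization.Away (1 ⊗ₜ algebraMap A D t : T) L :=
    isLocalization_away_tensor D C (algebraMap A D t) A'
  -- the two base changes agree
  have htL : IsUnit (algebraMap A' L (algebraMap A A' t)) := by
    have h1 : IsUnit (algebraMap A C t) := by
      rw [IsScalarTower.algebraMap_apply A K C]
      exact (IsLocalization.Away.algebraMap_isUnit t).map _
    have h2 := h1.map (Algebra.TensorProduct.includeRight : C →ₐ[A] L)
    rwa [AlgHom.commutes, IsScalarTower.algebraMap_apply A A' L] at h2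
  let gK : K' →+* L := IsLocalization.Away.lift (algebraMap A A' t) htL
  have hgK : ∀ a', gK (algebraMap A' K' a') = a' ⊗ₜ 1 := fun a' => IsLocalization.Away.lift_eq _ _ _
  have hν0 : ∀ k : K, gK (algebraMap K K' k) = (1 : A') ⊗ₜ[A] algebraMap K C k := by
    refine fun k => RingHom.congr_fun (IsLocalization.ringHom_ext (Submonoid.powers t) (RingHom.ext fun a => ?_) :
      gK.comp (algebraMap K K') = (Algebra.TensorProduct.includeRight : C →ₐ[A] L).toRingHom.comp (algebraMap K C)) k
    show gK (algebraMap K K' (algebraMap A K a)) = (1 : A') ⊗ₜ[A] algebraMap K C (algebraMap A K a)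
    rw [← IsScalarTower.algebraMap_apply, IsScalarTower.algebraMap_apply A A' K', hgK,
      ← IsScalarTower.algebraMap_apply A K C, Algebra.algebraMap_eq_smul_one, Algebra.algebraMap_eq_smul_one,
      TensorProduct.smul_tmul]
  letI : Algebra K L := ((Algebra.TensorProduct.includeRight : C →ₐ[A] L).toRingHom.comp (algebraMap K C)).toAlgebra
  let Ψ : K' ⊗[K] C →ₐ[K] L := Algebra.TensorProduct.lift ⟨gK, hν0⟩
    ⟨(Algebra.TensorProduct.includeRight : C →ₐ[A] L).toRingHom, fun k => rfl⟩ fun _ _ => Commute.all _ _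
  let ν : L →ₐ[A] K' ⊗[K] C := Algebra.TensorProduct.lift
    ⟨(Algebra.TensorProduct.includeLeftRingHom : K' →+* K' ⊗[K] C).comp (algebraMap A' K'), fun a => by
      show algebraMap A' K' (algebraMap A A' a) ⊗ₜ[K] (1 : C) = algebraMap A K' a ⊗ₜ[K] 1
      rw [← IsScalarTower.algebraMap_apply]⟩
    ⟨(Algebra.TensorProduct.includeRight : C →ₐ[K] K' ⊗[K] C).toRingHom, fun a =>
      ((Algebra.TensorProduct.includeRight : C →ₐ[K] K' ⊗[K] C).commutes (algebraMap A K a)).trans (by
        show algebraMap K K' (algebraMap A K a) ⊗ₜ[K] (1 : C) = algebraMap A K' a ⊗ₜ[K] 1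
        rw [← IsScalarTower.algebraMap_apply])⟩ fun _ _ => Commute.all _ _
  have hνC : ∀ c, ν ((1 : A') ⊗ₜ c) = (1 : K') ⊗ₜ[K] c := fun c => by
    show (algebraMap A' K' 1 ⊗ₜ[K] (1 : C)) * ((1 : K') ⊗ₜ[K] c) = _
    rw [map_one, Algebra.TensorProduct.tmul_mul_tmul, one_mul, one_mul]
  have hνK : ∀ k', ν (gK k') = k' ⊗ₜ[K] (1 : C) := by
    refine fun k' => RingHom.congr_fun (IsLocalization.ringHom_ext (Submonoid.powers (algebraMap A A' t))
      (RingHom.ext fun a' => ?_) : ν.toRingHom.comp gK = (Algebra.TensorProduct.includeLeftRingHom : K' →+* K' ⊗[K] C)) k'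
    show ν (gK (algebraMap A' K' a')) = algebraMap A' K' a' ⊗ₜ[K] (1 : C)
    rw [hgK]
    show (algebraMap A' K' a' ⊗ₜ[K] (1 : C)) * ((1 : K') ⊗ₜ[K] (1 : C)) = _
    rw [Algebra.TensorProduct.tmul_mul_tmul, mul_one, one_mul]
  have hΨC : ∀ c, Ψ ((1 : K') ⊗ₜ c) = (1 : A') ⊗ₜ[A] c := fun c => by
    show gK 1 * ((1 : A') ⊗ₜ[A] c) = _
    rw [map_one, one_mul]
  have hνΨ : ∀ z, ν (Ψ z) = z := fun z => by
    induction z using TensorProduct.induction_on with
    | zero => simp
    | tmul k c =>
      show ν (gK k * ((1 : A') ⊗ₜ[A] c)) = _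
      rw [map_mul, hνK, hνC, Algebra.TensorProduct.tmul_mul_tmul, mul_one, one_mul]
    | add x y hx hy => rw [map_add, map_add, hx, hy]
  -- the squares of spectra
  have hsq : ∀ x : PrimeSpectrum L,
      PrimeSpectrum.comap (algebraMap D C) (PrimeSpectrum.comap (Algebra.TensorProduct.includeRight : C →ₐ[A] L).toRingHom x) =
      PrimeSpectrum.comap (Algebra.TensorProduct.includeRight : D →ₐ[A] T).toRingHom (PrimeSpectrum.comap (algebraMap T L) x) := fun x => by
    rw [← PrimeSpectrum.comap_comp_apply, ← PrimeSpectrum.comap_comp_apply]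
    rfl
  have hjC := PrimeSpectrum.localization_away_isOpenEmbedding C (algebraMap A D t)
  have hrC := PrimeSpectrum.localization_away_comap_range C (algebraMap A D t)
  have hjL := PrimeSpectrum.localization_away_isOpenEmbedding L (1 ⊗ₜ algebraMap A D t : T)
  have hrL := PrimeSpectrum.localization_away_comap_range L (1 ⊗ₜ algebraMap A D t : T)
  let U : Set (PrimeSpectrum D) := {x | algebraMap A D t ∉ x.asIdeal}
  let e'' : L := Ψ e'
  have he'' : IsIdempotentElem e'' := he'.map _
  obtain ⟨V, ⟨hV, hVW⟩, hu⟩ := hclop _ (relClopen_image (1 ⊗ₜ algebraMap A D t : T) e'' he'')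
  -- membership in the preimage
  have hmem : ∀ (Q : Set (PrimeSpectrum D)) (x : PrimeSpectrum L),
      PrimeSpectrum.comap (Algebra.TensorProduct.includeRight : C →ₐ[A] L).toRingHom x ∈ PrimeSpectrum.comap (algebraMap D C) ⁻¹' Q ↔
        PrimeSpectrum.comap (algebraMap T L) x ∈ PrimeSpectrum.comap (Algebra.TensorProduct.includeRight : D →ₐ[A] T).toRingHom ⁻¹' Q :=
    fun Q x => by rw [Set.mem_preimage, Set.mem_preimage, hsq]
  have hclC : IsClopen (PrimeSpectrum.comap (algebraMap D C) ⁻¹' V) := by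
    refine ⟨⟨?_⟩, hV.2.1.preimage (PrimeSpectrum.continuous_comap _)⟩
    convert hV.2.2.preimage (PrimeSpectrum.continuous_comap (algebraMap D C)) using 1
    ext x
    have hxU : PrimeSpectrum.comap (algebraMap D C) x ∈ U := hrC.le ⟨x, rfl⟩
    simp only [Set.mem_compl_iff, Set.mem_preimage, Set.mem_diff]
    exact ⟨fun hx => ⟨hxU, hx⟩, fun hx => hx.2⟩
  obtain ⟨e, he, heV⟩ := PrimeSpectrum.isClopen_iff.1 hclC
  refine ⟨e, ⟨he, ?_⟩, fun e₁ ⟨he₁, hee₁⟩ => ?_⟩
  · rw [← hνC, ← hνΨ e']
    congr 1
    refine PrimeSpectrum.basicOpen_injOn_isIdempotentElem (he.map (Algebra.TensorProduct.includeRight : C →ₐ[A] L)) he''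
      (TopologicalSpace.Opens.ext (Set.ext fun x => ?_))
    show PrimeSpectrum.comap (Algebra.TensorProduct.includeRight : C →ₐ[A] L).toRingHom x ∈
      (PrimeSpectrum.basicOpen e : Set (PrimeSpectrum C)) ↔ _
    rw [← heV, hmem, hVW]
    exact hjL.injective.mem_set_image
  · -- uniqueness
    have h1 : PrimeSpectrum.comap (algebraMap D C) '' (PrimeSpectrum.basicOpen e₁ : Set (PrimeSpectrum C)) = V := by
      refine hu _ ⟨relClopen_image _ e₁ he₁, Set.ext fun y => ?_⟩
      constructor
      · intro hy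
        have hyU : y ∈ Set.range (PrimeSpectrum.comap (algebraMap T L)) := by
          rw [hrL]
          obtain ⟨z, -, hz⟩ := hy
          have hzU : PrimeSpectrum.comap (Algebra.TensorProduct.includeRight : D →ₐ[A] T).toRingHom y ∈ U :=
            hrC.le ⟨z, hz⟩
          exact hzU
        obtain ⟨x, rfl⟩ := hyU
        rw [← hmem, Set.preimage_image_eq _ hjC.injective] at hy
        refine ⟨x, ?_, rfl⟩
        show x ∈ (PrimeSpectrum.basicOpen e'' : Set (PrimeSpectrum L))
        rw [show e'' = (1 : A') ⊗ₜ[A] e₁ by rw [← hΨC, hee₁]]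
        exact hy
      · rintro ⟨x, hx, rfl⟩
        rw [← hmem, Set.preimage_image_eq _ hjC.injective]
        show x ∈ (PrimeSpectrum.basicOpen ((1 : A') ⊗ₜ[A] e₁) : Set (PrimeSpectrum L))
        rw [← hΨC, hee₁]
        exact hx
    refine PrimeSpectrum.basicOpen_injOn_isIdempotentElem he₁ he (TopologicalSpace.Opens.ext ?_)
    rw [← heV, ← h1, Set.preimage_image_eq _ hjC.injective]

end Groth.Agent.RigFEt7
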