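import Groth.Agent.RigFEt7.Model
import Groth.Agent.ClopenRep7.Affine
import Groth.Agent.Pi1X.FEtFull

/-!
Finite étale covers of `Spec A[1/t]` and of `Spec A'[1/t]` agree for a rigid pair.
-/

set_option autoImplicit false

universe u
open CategoryTheory CategoryTheory.Limits AlgebraicGeometry TensorProduct

namespace Groth.Agent.RigFEt7

open ClopenRep7 (str)

theorem exists_affine_model {K : Type u} [CommRing K] {X : Scheme.{u}} (p : X ⟶ Spec (CommRingCat.of K))
    (hp : FEt.prop p) : ∃ (C : Type u) (_ : CommRing C) (_ : Algebra K C) (_ : Module.Finite K C)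
      (_ : Algebra.Etale K C) (e : Spec (CommRingCat.of C) ≅ X), e.hom ≫ p = str K C := by
  haveI := hp.1
  haveI := hp.2
  haveI : IsAffine X := isAffine_of_isAffineHom p
  let C : Type u := Γ(X, ⊤)
  let φ : CommRingCat.of K ⟶ Γ(X, ⊤) := Spec.preimage (X.isoSpec.inv ≫ p)
  have hφ : Spec.map φ = X.isoSpec.inv ≫ p := Spec.map_preimage _
  have h1 : IsFinite (Spec.map φ) := by rw [hφ]; infer_instance
  have h2 : Etale (Spec.map φ) := by rw [hφ]; infer_instance
  rw [IsFinite.SpecMap_iff] at h1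
  rw [HasRingHomProperty.Spec_iff (P := @Etale)] at h2
  letI : Algebra K C := φ.hom.toAlgebra
  refine ⟨C, inferInstance, inferInstance, h1, ?_, X.isoSpec.symm, hφ.symm⟩
  exact RingHom.etale_algebraMap.1 h2

theorem isPullback_model {K K' C : Type u} [CommRing K] [CommRing K'] [CommRing C] [Algebra K K'] [Algebra K C]
    {X : Scheme.{u}} (p : X ⟶ Spec (CommRingCat.of K)) (e : Spec (CommRingCat.of C) ≅ X) (he : e.hom ≫ p = str K C) :
    IsPullback (Spec.map (CommRingCat.ofHom (Algebra.TensorProduct.includeRight : C →ₐ[K] K' ⊗[K] C).toRingHom) ≫ e.hom)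
      (Spec.map (CommRingCat.ofHom (Algebra.TensorProduct.includeLeftRingHom : K' →+* K' ⊗[K] C))) p (str K K') := by
  have hB : IsPullback e.hom (str K C) p (𝟙 (Spec (CommRingCat.of K))) :=
    IsPullback.of_horiz_isIso ⟨by rw [he, Category.comp_id]⟩
  have := ClopenRep7.isPullback_chart (𝟙 (Spec (CommRingCat.of K))) hB K'
  rwa [Category.comp_id] at this

variable {A A' K' : Type u} [CommRing A] [CommRing A'] [CommRing K'] [Algebra A A'] {t : A}
  [Algebra A K'] [Algebra A' K'] [IsScalarTower A A' K']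
  (K : Type u) [CommRing K] [Algebra A K] [IsLocalization.Away t K]
  [Algebra K K'] [IsScalarTower A K K'] [IsLocalization.Away (algebraMap A A' t) K']

theorem RigidPair.exists_clopen_lift (h : RigidPair A A' t) {C : Type u} [CommRing C] [Algebra K C] [Module.Finite K C]
    (V : Set (PrimeSpectrum (K' ⊗[K] C))) (hV : IsClopen V) :
    ∃ G : Set (PrimeSpectrum C), IsClopen G ∧
      PrimeSpectrum.comap (Algebra.TensorProduct.includeRight : C →ₐ[K] K' ⊗[K] C).toRingHom ⁻¹' G = V := by
  obtain ⟨e', he', heV⟩ := PrimeSpectrum.isClopen_iff.1 hV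
  obtain ⟨e, ⟨he, hee⟩, -⟩ := h.existsUnique_idempotent K K' C e' he'
  refine ⟨_, PrimeSpectrum.isClopen_iff.2 ⟨e, he, rfl⟩, ?_⟩
  rw [heV, ← hee]
  rfl

/-- Rigidity of finite étale covers away from `t`. -/
theorem RigidPair.restrict_isEquivalence (h : RigidPair A A' t) :
    (FEt.restrict (str K K')).IsEquivalence := by
  have hmeet : ∀ G : Set ↥(Spec (CommRingCat.of K)), IsClopen G → G.Nonempty →
      (G ∩ Set.range (str K K').base).Nonempty := by
    intro G hG hne
    obtain ⟨e, he, heG⟩ := PrimeSpectrum.isClopen_iff.1 (hG : IsClopen (X := PrimeSpectrum K) G)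
    have hnz : algebraMap K K' e ≠ 0 := fun h0 => by
      have h1 : e = 0 := (h.existsUnique_idempotent K K' K 0 IsIdempotentElem.zero).unique
        ⟨he, by rw [show e = e • (1 : K) by rw [smul_eq_mul, mul_one], ← TensorProduct.smul_tmul,
          Algebra.smul_def, mul_one, h0, zero_tmul]⟩ ⟨IsIdempotentElem.zero, tmul_zero _ _⟩
      obtain ⟨x, hx⟩ := hne
      rw [heG, h1, PrimeSpectrum.basicOpen_zero] at hx
      exact hx
    obtain ⟨q, hq⟩ : ∃ q : PrimeSpectrum K', algebraMap K K' e ∉ q.asIdeal := by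
      by_contra hall
      obtain ⟨m, hm⟩ := nilpotent_iff_mem_prime.2 fun J hJ => by
        by_contra hJ'
        exact hall ⟨⟨J, hJ⟩, hJ'⟩
      exact hnz ((he.map (algebraMap K K')).eq_zero_of_isNilpotent ⟨m, hm⟩)
    refine ⟨PrimeSpectrum.comap (algebraMap K K') q, ?_, ⟨q, rfl⟩⟩
    rw [heG]
    exact hq
  have hfull : ∀ (W : FEt.Cat (Spec (CommRingCat.of K))) (V : Set ↥(pullback W.hom (str K K'))), IsClopen V →
      ∃ G : Set W.left, IsClopen G ∧ (pullback.fst W.hom (str K K')).base ⁻¹' G = V := by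
    intro W V hV
    obtain ⟨C, _, _, _, _, e, he⟩ := exists_affine_model W.hom W.prop
    have hP := isPullback_model (K' := K') W.hom e he
    let χ := hP.isoPullback
    obtain ⟨G, hG, hGV⟩ := h.exists_clopen_lift K (χ.hom.base ⁻¹' V) (hV.preimage χ.hom.continuous)
    refine ⟨e.inv.base ⁻¹' G, hG.preimage e.inv.continuous, ?_⟩
    ext z
    obtain ⟨w, rfl⟩ := χ.hom.surjective z
    show e.inv (pullback.fst W.hom (str K K') (χ.hom w)) ∈ G ↔ χ.hom w ∈ V
    rw [← Scheme.Hom.comp_apply χ.hom, IsPullback.isoPullback_hom_fst, Scheme.Hom.comp_apply, ← Scheme.Hom.comp_apply e.hom,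
      Iso.hom_inv_id]
    exact Set.ext_iff.1 hGV w
  haveI := Pi1X.restrict_faithful (str K K') hmeet
  haveI := Pi1X.restrict_full (str K K') hmeet hfull
  haveI : (FEt.restrict (str K K')).EssSurj := by
    refine ⟨fun Z => ?_⟩
    obtain ⟨C', _, _, _, _, e', he'⟩ := exists_affine_model Z.hom Z.prop
    obtain ⟨C, _, _, hfin, het, ⟨F⟩⟩ := h.exists_model (K' := K') K C'
    have hC : FEt.prop (str K C) := ⟨(IsFinite.SpecMap_iff _).2 (RingHom.finite_algebraMap.2 hfin),
      (HasRingHomProperty.Spec_iff (P := @Etale)).2 (RingHom.etale_algebraMap.2 het)⟩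
    let Y : FEt.Cat (Spec (CommRingCat.of K)) := MorphismProperty.Over.mk ⊤ (str K C) hC
    have hP := isPullback_model (K' := K') (str K C) (Iso.refl _) (Category.id_comp _)
    let ε : pullback (str K C) (str K K') ≅ Z.left :=
      hP.isoPullback.symm ≪≫ (Scheme.Spec.mapIso F.toRingEquiv.toCommRingCatIso.op).symm ≪≫ e'
    refine ⟨Y, ⟨MorphismProperty.Over.isoMk ε ?_⟩⟩
    show (hP.isoPullback.inv ≫ Spec.map (CommRingCat.ofHom F.symm.toRingEquiv.toRingHom) ≫ e'.hom) ≫ Z.hom = pullback.snd _ _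
    rw [Category.assoc, Category.assoc, he']
    dsimp only [ClopenRep7.str]
    rw [← Spec.map_comp, ← CommRingCat.ofHom_comp]
    rw [show F.symm.toRingEquiv.toRingHom.comp (algebraMap K' C') = Algebra.TensorProduct.includeLeftRingHom from
      RingHom.ext fun a => F.symm.commutes a]
    exact hP.isoPullback_inv_snd
  exact {}

end Groth.Agent.RigFEt7
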