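import Groth.Agent.RigFEt7.Approx
import Mathlib.RingTheory.ZariskisMainTheorem
import Mathlib.RingTheory.Ideal.Pure
import Mathlib.RingTheory.Localization.Away.Lemmas

/-!
Finite étale algebras over `A'[1/t]` come from finite étale algebras over `A[1/t]`.
-/

set_option autoImplicit false

universe u
open TensorProduct

namespace Groth.Agent.RigFEt7

theorem eq_top_of_pow_mem {R : Type u} [CommRing R] (M : Ideal R) {ι : Type*} (f : ι → R) (S : Set ι)
    (h : Ideal.span (f '' S) = ⊤) (hm : ∀ r ∈ S, ∃ k : ℕ, f r ^ k ∈ M) : M = ⊤ := by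
  refine Ideal.radical_eq_top.1 (top_le_iff.1 (h.symm.le.trans (Ideal.span_le.2 ?_)))
  rintro _ ⟨r, hr, rfl⟩
  exact hm r hr

/-- A finite subalgebra with the same localizations at elements generating the unit ideal. -/
theorem exists_finite_subalgebra (K C : Type u) [CommRing K] [CommRing C] [Algebra K C] [Algebra.Etale K C] :
    ∃ (D : Subalgebra K C) (_ : Module.Finite K D) (s : Finset D), Ideal.span ((fun r : D => (r : C)) '' s) = ⊤ ∧
      ∀ r ∈ s, ∀ c : C, ∃ k : ℕ, (r : C) ^ k * c ∈ D := by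
  classical
  haveI : Algebra.QuasiFinite K C := inferInstance
  choose S hS r hr hbij using fun p : PrimeSpectrum C =>
    Algebra.QuasiFiniteAt.exists_fg_and_exists_notMem_and_awayMap_bijective (R := K) p.asIdeal
  obtain ⟨ps, hps⟩ := isCompact_univ.elim_finite_subcover (fun p => (PrimeSpectrum.basicOpen (r p : C) : Set (PrimeSpectrum C)))
    (fun p => (PrimeSpectrum.basicOpen _).2) (fun p _ => Set.mem_iUnion.2 ⟨p, hr p⟩)
  choose gens hgens using fun p => Submodule.fg_def.1 (hS p)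
  let T : Set C := ⋃ p ∈ ps, gens p
  have hle : ∀ p ∈ ps, S p ≤ Algebra.adjoin K T := fun p hp c hc => by
    have : c ∈ Submodule.span K (gens p) := (hgens p).2.symm ▸ hc
    exact Algebra.span_le_adjoin K _ (Submodule.span_mono (Set.subset_biUnion_of_mem (u := gens) hp) this)
  haveI hfin : Module.Finite K (Algebra.adjoin K T) := by
    refine Module.Finite.iff_fg.2 (fg_adjoin_of_finite (Set.Finite.biUnion ps.finite_toSet fun p _ => (hgens p).1) fun c hc => ?_)
    obtain ⟨p, -, hcp⟩ := Set.mem_iUnion₂.1 hc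
    haveI : Module.Finite K (S p) := Module.Finite.iff_fg.2 (hS p)
    have hmem : c ∈ S p := (hgens p).2.le (Submodule.subset_span hcp)
    exact ((Algebra.IsIntegral.isIntegral (R := K) (⟨c, hmem⟩ : S p)).map (S p).val)
  refine ⟨Algebra.adjoin K T, hfin, ps.attach.image (fun p => ⟨r p.1, hle p.1 p.2 (r p.1).2⟩), ?_, fun x hx c => ?_⟩
  · rw [← PrimeSpectrum.zeroLocus_empty_iff_eq_top, PrimeSpectrum.zeroLocus_span]
    refine Set.eq_empty_iff_forall_notMem.2 fun q hq => ?_
    obtain ⟨p, hp, hqp⟩ := Set.mem_iUnion₂.1 (hps (Set.mem_univ q))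
    exact hqp (hq ⟨⟨r p, hle p hp (r p).2⟩, Finset.mem_image.2 ⟨⟨p, hp⟩, Finset.mem_attach _ _, rfl⟩, rfl⟩)
  · obtain ⟨⟨p, hp⟩, -, rfl⟩ := Finset.mem_image.1 hx
    obtain ⟨z, hz⟩ := (hbij p).2 (algebraMap C _ c)
    obtain ⟨a, ⟨_, m, rfl⟩, rfl⟩ := IsLocalization.exists_mk'_eq (Submonoid.powers (r p)) z
    rw [Localization.awayMap, IsLocalization.Away.map, IsLocalization.map_mk',
      IsLocalization.mk'_eq_iff_eq_mul, ← map_mul] at hz
    obtain ⟨⟨_, k, rfl⟩, hk⟩ := (IsLocalization.eq_iff_exists (Submonoid.powers ((S p).val.toRingHom (r p))) _).1 hz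
    refine ⟨k + m, ?_⟩
    have : (r p : C) ^ (k + m) * c = (r p : C) ^ k * (a : C) := by
      rw [pow_add, mul_assoc, mul_comm ((r p : C) ^ m)]
      simpa using hk.symm
    show (r p : C) ^ (k + m) * c ∈ Algebra.adjoin K T
    rw [this]
    exact mul_mem (pow_mem (hle p hp (r p).2) _) (hle p hp a.2)

section kernel

variable {K K' C₀ C' : Type u} [CommRing K] [CommRing K'] [Algebra K K'] [CommRing C₀] [Algebra K C₀]
  [CommRing C'] [Algebra K' C'] [Algebra K C'] [IsScalarTower K K' C']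
  {ψ : C₀ →ₐ[K] C'} {D : Subalgebra K C₀} {s : Finset D}
  (u : K' ⊗[K] D →ₐ[K'] C') (huD : ∀ d : D, u ((1 : K') ⊗ₜ d) = ψ d)
  (hψ : Algebra.adjoin K' (Set.range ψ) = ⊤) (hs : Ideal.span ((fun r : D => (r : C₀)) '' s) = ⊤)
  (hsc : ∀ r ∈ s, ∀ c : C₀, ∃ k : ℕ, (r : C₀) ^ k * c ∈ D)

include huD hs in
theorem span_image_eq_top : Ideal.span ((fun r : D => u ((1 : K') ⊗ₜ r)) '' (s : Set D)) = ⊤ := by
  have h1 := congrArg (Ideal.map ψ.toRingHom) hs
  rw [Ideal.map_span, Set.image_image, Ideal.map_top] at h1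
  rw [← h1]
  congr 1
  exact Set.image_congr fun r _ => huD r

include huD hψ hs hsc in
theorem surjective_of_adjoin [Module.Finite K' C'] : Function.Surjective u := by
  let R : Subalgebra K' C' := u.range
  let ρ : D → R := fun r => ⟨u ((1 : K') ⊗ₜ r), ⟨_, rfl⟩⟩
  have hsR : Ideal.span (ρ '' (s : Set D)) = ⊤ := by
    by_contra hne
    obtain ⟨P, hP, hle⟩ := Ideal.exists_le_maximal _ hne
    haveI : Module.Finite R C' := Module.Finite.of_restrictScalars_finite K' R C'
    haveI : Algebra.IsIntegral R C' := Algebra.IsIntegral.of_finite R C'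
    haveI : FaithfulSMul R C' := (faithfulSMul_iff_algebraMap_injective R C').2 Subtype.val_injective
    obtain ⟨Q, hQ, hQP⟩ := Ideal.exists_ideal_over_maximal_of_isIntegral (S := C') P (by
      rw [(RingHom.injective_iff_ker_eq_bot _).1 (FaithfulSMul.algebraMap_injective R C')]
      exact bot_le)
    refine hQ.ne_top (top_le_iff.1 ((span_image_eq_top u huD hs).symm.le.trans (Ideal.span_le.2 ?_)))
    rintro _ ⟨r, hr, rfl⟩
    have h2 : ρ r ∈ Q.comap (algebraMap R C') := hQP.symm ▸ hle (Ideal.subset_span ⟨r, hr, rfl⟩)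
    exact h2
  have hR : R = ⊤ := by
    rw [eq_top_iff, ← hψ, Algebra.adjoin_le_iff]
    rintro _ ⟨c, rfl⟩
    let M : Ideal R :=
      { carrier := {a | (a : C') * ψ c ∈ R}
        add_mem' := fun {a b} ha hb => by
          show ((a + b : R) : C') * ψ c ∈ R
          rw [Subalgebra.coe_add, add_mul]
          exact add_mem ha hb
        zero_mem' := by
          show ((0 : R) : C') * ψ c ∈ R
          rw [Subalgebra.coe_zero, zero_mul]
          exact zero_mem _
        smul_mem' := fun a b hb => by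
          show ((a * b : R) : C') * ψ c ∈ R
          rw [Subalgebra.coe_mul, mul_assoc]
          exact mul_mem a.2 hb }
    have hM : M = ⊤ := eq_top_of_pow_mem M ρ _ hsR fun r hr => by
      obtain ⟨k, hk⟩ := hsc r hr c
      refine ⟨k, ?_⟩
      show ((ρ r ^ k : R) : C') * ψ c ∈ R
      rw [Subalgebra.coe_pow]
      show u ((1 : K') ⊗ₜ r) ^ k * ψ c ∈ R
      rw [huD, ← map_pow, ← map_mul]
      exact ⟨(1 : K') ⊗ₜ ⟨_, hk⟩, huD _⟩
    have h1 := (Ideal.eq_top_iff_one M).1 hM
    simpa using (show ((1 : R) : C') * ψ c ∈ R from h1)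
  intro x
  have : x ∈ R := hR ▸ Algebra.mem_top
  exact this

include huD hs hsc in
theorem flat_of_etale [Algebra.Etale K C₀] [Algebra.Etale K' C'] : u.toRingHom.Flat := by
  letI : Algebra (K' ⊗[K] D) C' := u.toRingHom.toAlgebra
  haveI : IsScalarTower K' (K' ⊗[K] D) C' := .of_algebraMap_eq' u.comp_algebraMap.symm
  show Module.Flat (K' ⊗[K] D) C'
  refine Module.flat_of_isLocalized_span C' C' _ (span_image_eq_top u huD hs)
    (fun r => Localization.Away r.1) (fun r => Algebra.linearMap C' _) ?_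
  rintro ⟨_, r, hr, rfl⟩
  let Cr := Localization.Away (r : C₀)
  haveI : IsLocalization.Away r Cr := by
    refine IsLocalization.Away.mk _ (IsLocalization.Away.algebraMap_isUnit (r : C₀)) (fun z => ?_) fun a b hab => ?_
    · obtain ⟨m, c, hc⟩ := IsLocalization.Away.surj (r : C₀) z
      obtain ⟨k, hk⟩ := hsc r hr c
      refine ⟨m + k, ⟨_, hk⟩, ?_⟩
      show z * algebraMap C₀ _ (r : C₀) ^ (m + k) = algebraMap C₀ _ ((r : C₀) ^ k * c)
      rw [pow_add, ← mul_assoc, hc, map_mul, map_pow, mul_comm]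
    · obtain ⟨⟨_, k, rfl⟩, hk⟩ := (IsLocalization.eq_iff_exists (Submonoid.powers (r : C₀)) _).1 hab
      exact ⟨k, Subtype.ext hk⟩
  let T := K' ⊗[K] Cr
  haveI : Algebra.Etale K' T := inferInstance
  let m : K' ⊗[K] D →ₐ[K'] T := Algebra.TensorProduct.map (AlgHom.id K' K') (IsScalarTower.toAlgHom K D Cr)
  letI : Algebra (K' ⊗[K] D) T := m.toRingHom.toAlgebra
  haveI : IsLocalization.Away ((1 : K') ⊗ₜ r : K' ⊗[K] D) T := isLocalization_away_tensor D Cr r K'
  haveI : IsScalarTower K' (K' ⊗[K] D) T := .of_algebraMap_eq' m.comp_algebraMap.symm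
  let L := Localization.Away (u ((1 : K') ⊗ₜ r) : C')
  haveI : Algebra.Etale K' L := Algebra.Etale.comp K' C' L
  let θ : T →+* L := IsLocalization.Away.lift ((1 : K') ⊗ₜ r : K' ⊗[K] D) (g := algebraMap (K' ⊗[K] D) L) (by
    rw [IsScalarTower.algebraMap_apply (K' ⊗[K] D) C' L]
    exact IsLocalization.Away.algebraMap_isUnit (u ((1 : K') ⊗ₜ r)))
  letI : Algebra T L := θ.toAlgebra
  haveI : IsScalarTower (K' ⊗[K] D) T L := .of_algebraMap_eq fun x => (IsLocalization.Away.lift_eq _ _ x).symm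
  haveI : IsScalarTower K' T L := .of_algebraMap_eq fun x => by
    show algebraMap K' L x = θ (algebraMap K' T x)
    rw [show algebraMap K' T x = algebraMap (K' ⊗[K] D) T (algebraMap K' (K' ⊗[K] D) x) from
        (m.commutes x).symm, IsLocalization.Away.lift_eq, ← IsScalarTower.algebraMap_apply]
  haveI : Algebra.Etale T L := Algebra.Etale.of_restrictScalars K' T L
  haveI : Module.Flat (K' ⊗[K] D) T := IsLocalization.flat T (Submonoid.powers ((1 : K') ⊗ₜ r : K' ⊗[K] D))
  exact Module.Flat.trans (K' ⊗[K] D) T L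

theorem exists_idempotent_ker [Module.Finite K D] [Algebra.Etale K' C'] [Module.Finite K' C']
    (husurj : Function.Surjective u) (hflat : u.toRingHom.Flat) :
    ∃ d' : K' ⊗[K] D, IsIdempotentElem d' ∧ RingHom.ker u.toRingHom = Ideal.span {d'} := by
  letI : Algebra (K' ⊗[K] D) C' := u.toRingHom.toAlgebra
  haveI : Module.Flat (K' ⊗[K] D) C' := hflat
  let I : Ideal (K' ⊗[K] D) := RingHom.ker u.toRingHom
  have hIfg : I.FG := by
    haveI : Module.FinitePresentation K' C' := Module.FinitePresentation.of_finite_of_finitePresentation K' C'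
    obtain ⟨S, hS⟩ := Module.FinitePresentation.fg_ker u.toLinearMap husurj
    refine ⟨S, le_antisymm (Ideal.span_le.2 fun x hx => ?_) fun x hx => ?_⟩
    · exact (hS.le (Submodule.subset_span hx) : x ∈ LinearMap.ker u.toLinearMap)
    · have h1 : x ∈ Submodule.span K' (S : Set (K' ⊗[K] D)) := hS.symm.le hx
      exact Submodule.span_le_restrictScalars K' (K' ⊗[K] D) _ h1
  haveI : I.Pure := Module.Flat.of_linearEquiv
    ((Ideal.quotientKerAlgEquivOfSurjective (f := Algebra.ofId (K' ⊗[K] D) C') husurj).toLinearEquiv)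
  exact (Ideal.isIdempotentElem_iff_of_fg I hIfg).1 (Ideal.isIdempotentElem_of_pure I)

end kernel


set_option maxHeartbeats 300000 in
theorem exists_quotient_equiv {K K' D C' : Type u} [CommRing K] [CommRing K'] [CommRing D] [CommRing C']
    [Algebra K K'] [Algebra K D] [Algebra K' C'] [Algebra K C'] [IsScalarTower K K' C']
    (u : K' ⊗[K] D →ₐ[K'] C') (hu : Function.Surjective u) (x : D)
    (hker : RingHom.ker u.toRingHom = Ideal.span {(1 : K') ⊗ₜ[K] x}) :
    ∃ F : K' ⊗[K] (D ⧸ Ideal.span {x}) ≃ₐ[K'] C', ∀ d : D, F ((1 : K') ⊗ₜ Ideal.Quotient.mk _ d) = u ((1 : K') ⊗ₜ d) := by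
  let φ : D →ₐ[K] C' := (u.restrictScalars K).comp Algebra.TensorProduct.includeRight
  have hx : φ x = 0 := by
    have : (1 : K') ⊗ₜ[K] x ∈ RingHom.ker u.toRingHom := by rw [hker]; exact Ideal.mem_span_singleton_self _
    exact this
  let ψb : (D ⧸ Ideal.span {x}) →ₐ[K] C' := Ideal.Quotient.liftₐ _ φ fun y hy => by
    obtain ⟨a, rfl⟩ := Ideal.mem_span_singleton'.1 hy
    rw [map_mul, hx, mul_zero]
  let f : K' ⊗[K] (D ⧸ Ideal.span {x}) →ₐ[K'] C' :=
    Algebra.TensorProduct.lift (Algebra.ofId K' C') ψb fun _ _ => Commute.all _ _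
  let π : K' ⊗[K] D →ₐ[K'] K' ⊗[K] (D ⧸ Ideal.span {x}) :=
    Algebra.TensorProduct.map (AlgHom.id K' K') (Ideal.Quotient.mkₐ K _)
  have hfπ : f.comp π = u := AlgHom.ext fun z => by
    induction z using TensorProduct.induction_on with
    | zero => rw [map_zero, map_zero]
    | add y₁ y₂ h₁ h₂ => rw [map_add, map_add, h₁, h₂]
    | tmul c d =>
      have h1 : π (c ⊗ₜ d) = c ⊗ₜ[K] (Ideal.Quotient.mk (Ideal.span {x}) d) := Algebra.TensorProduct.map_tmul _ _ c d
      have h2 : f (c ⊗ₜ[K] (Ideal.Quotient.mk (Ideal.span {x}) d)) = algebraMap K' C' c * u ((1 : K') ⊗ₜ d) :=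
        Algebra.TensorProduct.lift_tmul _ _ _ c _
      rw [AlgHom.comp_apply, h1, h2, ← u.commutes, ← map_mul, Algebra.TensorProduct.algebraMap_apply,
        Algebra.TensorProduct.tmul_mul_tmul, mul_one, one_mul, Algebra.algebraMap_self_apply]
  have hπs : Function.Surjective π := fun z => by
    induction z using TensorProduct.induction_on with
    | zero => exact ⟨0, map_zero π⟩
    | add y₁ y₂ h₁ h₂ =>
      obtain ⟨z₁, rfl⟩ := h₁
      obtain ⟨z₂, rfl⟩ := h₂
      exact ⟨z₁ + z₂, map_add π z₁ z₂⟩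
    | tmul c d =>
      obtain ⟨d, rfl⟩ := Ideal.Quotient.mk_surjective d
      exact ⟨c ⊗ₜ d, Algebra.TensorProduct.map_tmul _ _ c d⟩
  have hfbij : Function.Bijective f := by
    refine ⟨(injective_iff_map_eq_zero _).2 fun z hz => ?_, fun y => ?_⟩
    · obtain ⟨z, rfl⟩ := hπs z
      have hzI : z ∈ RingHom.ker u.toRingHom := (AlgHom.congr_fun hfπ z).symm.trans hz
      rw [hker] at hzI
      obtain ⟨a, rfl⟩ := Ideal.mem_span_singleton'.1 hzI
      rw [map_mul, show π ((1 : K') ⊗ₜ[K] x) = (1 : K') ⊗ₜ[K] Ideal.Quotient.mk (Ideal.span {x}) x from rfl,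
        Ideal.Quotient.eq_zero_iff_mem.2 (Ideal.mem_span_singleton_self _), tmul_zero, mul_zero]
    · obtain ⟨z, rfl⟩ := hu y
      exact ⟨π z, AlgHom.congr_fun hfπ z⟩
  exact ⟨AlgEquiv.ofBijective f hfbij, fun d => AlgHom.congr_fun hfπ ((1 : K') ⊗ₜ d)⟩

section quotient

variable {K C₀ : Type u} [CommRing K] [CommRing C₀] [Algebra K C₀] {D : Subalgebra K C₀} {s : Finset D}

theorem etale_quotient [Algebra.Etale K C₀] (hsc : ∀ r ∈ s, ∀ c : C₀, ∃ k : ℕ, (r : C₀) ^ k * c ∈ D)
    (e : D) (he : IsIdempotentElem e)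
    (hs : Ideal.span ((fun r : D => Ideal.Quotient.mk (Ideal.span {1 - e}) r) '' (s : Set D)) = ⊤) :
    Algebra.Etale K (D ⧸ Ideal.span {1 - e}) := by
  let C := D ⧸ Ideal.span {1 - e}
  let q : D →ₐ[K] C := Ideal.Quotient.mkₐ K _
  let R₂ := C₀ ⧸ Ideal.span {(1 : C₀) - (e : C₀)}
  haveI : IsLocalization.Away (e : C₀) R₂ :=
    IsLocalization.away_of_isIdempotentElem (he.map D.val) Ideal.mk_ker Ideal.Quotient.mk_surjective
  haveI : Algebra.Etale C₀ R₂ := Algebra.Etale.of_isLocalizationAway (e : C₀)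
  haveI : Algebra.Etale K R₂ := Algebra.Etale.comp K C₀ R₂
  let g : C →ₐ[K] R₂ := Ideal.Quotient.liftₐ _ ((Ideal.Quotient.mkₐ K _).comp D.val) fun x hx => by
    obtain ⟨a, rfl⟩ := Ideal.mem_span_singleton'.1 hx
    exact Ideal.Quotient.eq_zero_iff_mem.2 (Ideal.mem_span_singleton'.2 ⟨(a : C₀), rfl⟩)
  have hgq : ∀ d : D, g (q d) = Ideal.Quotient.mk _ (d : C₀) := fun d => rfl
  have hgbij : Function.Bijective g := by
    refine ⟨(injective_iff_map_eq_zero _).2 fun z hz => ?_, fun y => ?_⟩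
    · obtain ⟨d, rfl⟩ := Ideal.Quotient.mkₐ_surjective K (Ideal.span {1 - e}) z
      obtain ⟨c, hc⟩ := Ideal.mem_span_singleton'.1 (Ideal.Quotient.eq_zero_iff_mem.1 hz)
      let M : Ideal C := (⊥ : Ideal C).colon {q d}
      have hM : M = ⊤ := eq_top_of_pow_mem M q _ hs fun r hr => by
        obtain ⟨k, hk⟩ := hsc r hr c
        refine ⟨k, Submodule.mem_colon_singleton.2 (Submodule.mem_bot _ |>.2 ?_)⟩
        show q r ^ k * q d = 0
        rw [← map_pow, ← map_mul, show r ^ k * d = ⟨_, hk⟩ * (1 - e) from Subtype.ext (by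
          show (r : C₀) ^ k * (d : C₀) = (r : C₀) ^ k * c * ((1 : C₀) - (e : C₀))
          rw [mul_assoc, hc]
          rfl), map_mul, show q (1 - e) = 0 from Ideal.Quotient.eq_zero_iff_mem.2 (Ideal.mem_span_singleton_self _), mul_zero]
      have := Submodule.mem_colon_singleton.1 ((Ideal.eq_top_iff_one M).1 hM)
      rw [smul_eq_mul, one_mul] at this
      exact Submodule.mem_bot _ |>.1 this
    · obtain ⟨c, rfl⟩ := Ideal.Quotient.mk_surjective y
      let M : Ideal C :=
        { carrier := {a | g a * Ideal.Quotient.mk _ c ∈ g.range}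
          add_mem' := fun {a b} ha hb => by
            show g (a + b) * _ ∈ g.range
            rw [map_add, add_mul]
            exact add_mem ha hb
          zero_mem' := by
            show g 0 * _ ∈ g.range
            rw [map_zero, zero_mul]
            exact zero_mem _
          smul_mem' := fun a b hb => by
            show g (a * b) * _ ∈ g.range
            rw [map_mul, mul_assoc]
            exact mul_mem ⟨a, rfl⟩ hb }
      have hM : M = ⊤ := eq_top_of_pow_mem M q _ hs fun r hr => by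
        obtain ⟨k, hk⟩ := hsc r hr c
        refine ⟨k, ?_⟩
        show g (q r ^ k) * _ ∈ g.range
        rw [← map_pow, hgq, ← map_mul]
        exact ⟨q ⟨_, hk⟩, hgq _⟩
      obtain ⟨z, hz⟩ := (Ideal.eq_top_iff_one M).1 hM
      exact ⟨z, hz.trans (by rw [map_one, one_mul])⟩
  exact Algebra.Etale.of_equiv (AlgEquiv.ofBijective g hgbij).symm

end quotient

variable {A A' K' : Type u} [CommRing A] [CommRing A'] [CommRing K'] [Algebra A A'] {t : A}
  [Algebra A K'] [Algebra A' K'] [IsScalarTower A A' K']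
  (K : Type u) [CommRing K] [Algebra A K] [IsLocalization.Away t K]
  [Algebra K K'] [IsScalarTower A K K'] [IsLocalization.Away (algebraMap A A' t) K']

/-- Nothing finite dies over `A'[1/t]`. -/
theorem RigidPair.subsingleton_of_baseChange (h : RigidPair A A' t) (Q : Type u) [CommRing Q] [Algebra K Q]
    [Module.Finite K Q] (hQ : (1 : K') ⊗ₜ[K] (1 : Q) = 0) : (1 : Q) = 0 :=
  (h.existsUnique_idempotent K K' Q 0 IsIdempotentElem.zero).unique ⟨IsIdempotentElem.one, hQ⟩
    ⟨IsIdempotentElem.zero, tmul_zero _ _⟩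

/-- Elements generating the unit ideal over `A'[1/t]` generate it. -/
theorem RigidPair.span_eq_top (h : RigidPair A A' t) (C : Type u) [CommRing C] [Algebra K C] [Module.Finite K C]
    {C' : Type u} [CommRing C'] [Algebra K' C'] (F : K' ⊗[K] C ≃ₐ[K'] C') (S : Set C)
    (hS : Ideal.span ((fun c => F ((1 : K') ⊗ₜ c)) '' S) = ⊤) : Ideal.span S = ⊤ := by
  let a := Ideal.span S
  have h1 : (1 : C ⧸ a) = 0 := by
    refine h.subsingleton_of_baseChange (K' := K') K (C ⧸ a) ?_
    let ρ : K' ⊗[K] C →ₐ[K'] K' ⊗[K] (C ⧸ a) := Algebra.TensorProduct.map (AlgHom.id K' K') (Ideal.Quotient.mkₐ K a)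
    let ρ' : C' →ₐ[K'] K' ⊗[K] (C ⧸ a) := ρ.comp F.symm.toAlgHom
    have h2 : Ideal.span ((fun c => F ((1 : K') ⊗ₜ c)) '' S) ≤ RingHom.ker ρ'.toRingHom := by
      rw [Ideal.span_le]
      rintro _ ⟨c, hc, rfl⟩
      show ρ (F.symm (F ((1 : K') ⊗ₜ c))) = 0
      rw [AlgEquiv.symm_apply_apply]
      show (1 : K') ⊗ₜ[K] Ideal.Quotient.mk a c = 0
      rw [Ideal.Quotient.eq_zero_iff_mem.2 (Ideal.subset_span hc), tmul_zero]
    rw [hS] at h2
    exact (map_one ρ').symm.trans (h2 (Submodule.mem_top (x := (1 : C'))))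
  exact (Ideal.eq_top_iff_one a).2 (Ideal.Quotient.eq_zero_iff_mem.1 h1)

/-- Finite étale algebras descend. -/
theorem RigidPair.exists_model (h : RigidPair A A' t) (C' : Type u) [CommRing C'] [Algebra K' C']
    [Algebra.Etale K' C'] [Module.Finite K' C'] :
    ∃ (C : Type u) (_ : CommRing C) (_ : Algebra K C) (_ : Module.Finite K C) (_ : Algebra.Etale K C),
      Nonempty (K' ⊗[K] C ≃ₐ[K'] C') := by
  classical
  letI : Algebra A' C' := ((algebraMap K' C').comp (algebraMap A' K')).toAlgebra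
  haveI : IsScalarTower A' K' C' := .of_algebraMap_eq' rfl
  letI : Algebra K C' := ((algebraMap K' C').comp (algebraMap K K')).toAlgebra
  haveI : IsScalarTower K K' C' := .of_algebraMap_eq' rfl
  obtain ⟨C₀, _, _, hC₀, ψ, hψ⟩ := h.exists_etale_approx (K' := K') K C'
  obtain ⟨D, hD, s, hs, hsc⟩ := exists_finite_subalgebra K C₀
  let u : K' ⊗[K] D →ₐ[K'] C' := Algebra.TensorProduct.lift (Algebra.ofId K' C') (ψ.comp D.val) fun _ _ => Commute.all _ _
  have huD : ∀ d : D, u ((1 : K') ⊗ₜ d) = ψ d := fun d => by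
    show algebraMap K' C' 1 * ψ d = _
    rw [map_one, one_mul]
  have husurj := surjective_of_adjoin u huD hψ hs hsc
  obtain ⟨d', hd', hId⟩ := exists_idempotent_ker u husurj (flat_of_etale u huD hs hsc)
  obtain ⟨e, ⟨he, hee⟩, -⟩ := h.existsUnique_idempotent K K' D (1 - d') hd'.one_sub
  have hd'e : (1 : K') ⊗ₜ[K] (1 - e) = d' := by
    rw [tmul_sub, hee, ← Algebra.TensorProduct.one_def, sub_sub_cancel]
  obtain ⟨F, hF⟩ := exists_quotient_equiv u husurj (1 - e) (by rw [hId, hd'e])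
  have hsCtop : Ideal.span ((fun r : D => Ideal.Quotient.mk (Ideal.span {1 - e}) r) '' (s : Set D)) = ⊤ := by
    refine h.span_eq_top (K' := K') K _ F _ ?_
    rw [Set.image_image, ← span_image_eq_top u huD hs]
    congr 1
    exact Set.image_congr fun r _ => hF r
  exact ⟨_, inferInstance, inferInstance, inferInstance, etale_quotient hsc e he hsCtop, ⟨F⟩⟩

end Groth.Agent.RigFEt7
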